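import Groth.Agent.RefHullLib.Hartogs
import Groth.Agent.ReflexLib.Normal
import Groth.Agent.CMFlatLib.FibreDepth
import Groth.Agent.SMTLib.S2Height

/-!
# Specialisation to the generic point
-/

set_option autoImplicit false
universe u

open CategoryTheory CategoryTheory.Limits AlgebraicGeometry TopologicalSpace Opposite

noncomputable section

namespace RefHullLib

variable {X : Scheme.{u}}

theorem stalkSpecializes_smul (M : X.Modules) {y x : X} (h : y ⤳ x) (a : X.presheaf.stalk x)
    (v : M.presheaf.stalk x) :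
    M.presheaf.stalkSpecializes h (a • v) =
      ((X.presheaf.stalkSpecializes h).hom a : X.presheaf.stalk y) •
        ((M.presheaf.stalkSpecializes h).hom v : M.presheaf.stalk y) := by
  obtain ⟨Ua, ha, r, rfl⟩ := TopCat.Presheaf.exists_germ_eq X.presheaf (x := x) a
  obtain ⟨Uv, hv, m, rfl⟩ := TopCat.Presheaf.exists_germ_eq M.presheaf (x := x) v
  rw [← TopCat.Presheaf.germ_res_apply X.presheaf (homOfLE (inf_le_left : Ua ⊓ Uv ≤ Ua)) x ⟨ha, hv⟩,
    ← TopCat.Presheaf.germ_res_apply M.presheaf (homOfLE (inf_le_right : Ua ⊓ Uv ≤ Uv)) x ⟨ha, hv⟩,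
    ← Mero.germ_smul, TopCat.Presheaf.germ_stalkSpecializes_apply,
    TopCat.Presheaf.germ_stalkSpecializes_apply, Mero.germ_smul]
  congr 1
  exact (TopCat.Presheaf.germ_stalkSpecializes_apply M.presheaf (U := Ua ⊓ Uv) ⟨ha, hv⟩ h _).symm

theorem stalkMap_stalkSpecializes {M N : X.Modules} (φ : M ⟶ N) {y x : X} (h : y ⤳ x) (v : M.presheaf.stalk x) :
    N.presheaf.stalkSpecializes h (RefHull.stalkMapₗ φ x v) =
      RefHull.stalkMapₗ φ y (M.presheaf.stalkSpecializes h v) := by
  obtain ⟨U, hx, s, rfl⟩ := TopCat.Presheaf.exists_germ_eq M.presheaf (x := x) v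
  rw [RefHull.stalkMapₗ_germ, TopCat.Presheaf.germ_stalkSpecializes_apply,
    TopCat.Presheaf.germ_stalkSpecializes_apply, RefHull.stalkMapₗ_germ]

/-- On an integral scheme a torsion-free stalk injects into the generic one. -/
theorem injective_stalkSpecializes_generic [IsIntegral X] (M : X.Modules) [Coh.IsQCoh M] (x : X)
    [Module.IsTorsionFree (X.presheaf.stalk x) (M.presheaf.stalk x)]
    (h : genericPoint X ⤳ x) : Function.Injective (M.presheaf.stalkSpecializes h) := by
  refine (injective_iff_map_eq_zero _).2 fun v hv => ?_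
  obtain ⟨U, hU, hxU, -⟩ := exists_isAffineOpen_mem_and_subset (x := x) (U := (⊤ : X.Opens)) trivial
  have hηU : genericPoint X ∈ U := h.mem_open U.2 hxU
  letI := Module.compHom (M.presheaf.stalk x) (X.presheaf.germ U x hxU).hom
  letI := Module.compHom (M.presheaf.stalk (genericPoint X)) (X.presheaf.germ U _ hηU).hom
  haveI := FlatLib.isLocalizedModule_germLin M hU hxU
  haveI := FlatLib.isLocalizedModule_germLin M hU hηU
  obtain ⟨⟨a, s⟩, hs⟩ := IsLocalizedModule.surj (hU.primeIdealOf ⟨x, hxU⟩).asIdeal.primeCompl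
    (FlatLib.germLin M hxU) v
  change X.presheaf.germ U x hxU (s : Γ(X, U)) • v = M.presheaf.germ U x hxU a at hs
  have h0 : M.presheaf.germ U _ hηU a = 0 := by
    have h2 := congrArg (M.presheaf.stalkSpecializes h) hs
    rw [stalkSpecializes_smul, hv, smul_zero] at h2
    exact (TopCat.Presheaf.germ_stalkSpecializes_apply M.presheaf hxU h a).symm.trans h2.symm
  obtain ⟨w, hw⟩ := (IsLocalizedModule.eq_zero_iff (hU.primeIdealOf ⟨_, hηU⟩).asIdeal.primeCompl
    (FlatLib.germLin M hηU) (m := a)).1 h0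
  haveI : Nonempty U := ⟨⟨x, hxU⟩⟩
  have hne : ∀ r : Γ(X, U), r ≠ 0 → X.presheaf.germ U x hxU r ≠ 0 := fun r hr h =>
    hr (germ_injective_of_isIntegral X x hxU (h.trans (map_zero _).symm))
  have hne' : ∀ (P : Ideal Γ(X, U)) [P.IsPrime] (r : P.primeCompl), (r : Γ(X, U)) ≠ 0 := fun P _ r h => r.2 (by
    rw [h]; exact P.zero_mem)
  have h3 := congrArg (M.presheaf.germ U x hxU) hw
  change M.presheaf.germ U x hxU ((w : Γ(X, U)) • a) = M.presheaf.germ U x hxU 0 at h3
  rw [Mero.germ_smul, map_zero, ← hs] at h3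
  rcases smul_eq_zero.1 h3 with h4 | h4
  · exact absurd h4 (hne _ (hne' _ w))
  · exact (smul_eq_zero.1 h4).resolve_left (hne _ (hne' _ s))

theorem two_le_depth_normal {R : Type u} [CommRing R] [IsLocalRing R] [IsNoetherianRing R] [IsDomain R]
    [IsIntegrallyClosed R] (h : (2 : WithBot ℕ∞) ≤ ringKrullDim R) : (2 : ℕ∞) ≤ LocCoh.depth R R := by
  let m := IsLocalRing.maximalIdeal R
  have h1 := ReflexLib.hasSk_two_self (A := R) m
  rw [SMTLib.supportDim_localized_self, IsLocalRing.maximalIdeal_height_eq_ringKrullDim,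
    min_eq_left (by exact_mod_cast h)] at h1
  haveI : IsNoetherianRing (Localization.AtPrime m) := IsLocalization.isNoetherianRing m.primeCompl _ ‹_›
  have hu : ∀ s ∈ m.primeCompl, IsUnit s := fun s hs => IsLocalRing.notMem_maximalIdeal.1 hs
  haveI : IsLocalization m.primeCompl R :=
    IsLocalization.self (fun s hs => hu s hs)
  let e : Localization.AtPrime m ≃+* R :=
    (IsLocalization.algEquiv m.primeCompl (Localization.AtPrime m) R).toRingEquiv
  refine CMFlatLib.le_depth_congr (d := 2) e ?_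
  rw [CommAlgDim.depth_congr ((IsLocalizedModule.iso m.primeCompl (Algebra.linearMap R (Localization.AtPrime m))).extendScalarsOfIsLocalization
    m.primeCompl (Localization.AtPrime m))] at h1
  have h1' : ((2 : ℕ∞) : WithBot ℕ∞) ≤ _ := h1
  exact WithBot.coe_le_coe.1 h1'

theorem depth_reflexive_normal {R : Type u} [CommRing R] [IsLocalRing R] [IsNoetherianRing R] [IsDomain R]
    [IsIntegrallyClosed R] (M : Type u) [AddCommGroup M] [Module R M] [Module.Finite R M] [Module.IsReflexive R M]
    (h : (2 : WithBot ℕ∞) ≤ ringKrullDim R) : (2 : ℕ∞) ≤ LocCoh.depth R M :=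
  DepthTwoLib.two_le_iff.2 ((DepthTwoLib.idealDepth_reflexive _).2 (DepthTwoLib.two_le_iff.1 (two_le_depth_normal h)))

/-- Over a one-dimensional local normal domain the biduality map is surjective. -/
theorem surjective_eval_of_dim_le_one {R : Type u} [CommRing R] [IsLocalRing R] [IsNoetherianRing R] [IsDomain R]
    [IsIntegrallyClosed R] [Ring.KrullDimLE 1 R] (M : Type u) [AddCommGroup M] [Module R M] [Module.Finite R M] :
    Function.Surjective (Module.Dual.eval R M) := by
  let q : M →ₗ[R] M ⧸ Submodule.torsion R M := (Submodule.torsion R M).mkQ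
  have hqd : Function.Surjective q.dualMap := fun φ => by
    refine ⟨(Submodule.torsion R M).liftQ φ fun v hv => ?_, LinearMap.ext fun v => rfl⟩
    obtain ⟨⟨a, ha⟩, hav⟩ := hv
    have h1 := congrArg φ hav
    rw [Submonoid.smul_def, map_smul, map_zero, smul_eq_mul] at h1
    exact (mul_eq_zero.1 h1).resolve_left (nonZeroDivisors.ne_zero ha)
  have hqq : Function.Injective q.dualMap.dualMap := LinearMap.dualMap_injective_of_surjective hqd
  haveI := ReflexLib.isReflexive_of_dim_le_one (R := R) (M ⧸ Submodule.torsion R M)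
  intro Φ
  obtain ⟨v', hv'⟩ := (Module.bijective_dual_eval R (M ⧸ Submodule.torsion R M)).2 (q.dualMap.dualMap Φ)
  obtain ⟨v, rfl⟩ := Submodule.mkQ_surjective _ v'
  exact ⟨v, hqq (by rw [← hv']; rfl)⟩

/-- Sections of the module morphism determined by a family of additive maps on sections. -/
def homMk {G H : X.Modules} (f : ∀ U : X.Opens, Γ(G, U) →+ Γ(H, U))
    (hsmul : ∀ (U : X.Opens) (r : Γ(X, U)) (s : Γ(G, U)), f U (r • s) = r • f U s)
    (hres : ∀ (U V : X.Opens) (i : V ⟶ U) (s : Γ(G, U)),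
      f V (G.presheaf.map i.op s) = H.presheaf.map i.op (f U s)) : G ⟶ H :=
  ⟨PresheafOfModules.homMk
    { app := fun U => AddCommGrpCat.ofHom (f U.unop)
      naturality := fun {U V} i => by
        ext s
        exact hres U.unop V.unop i.unop s }
    (fun U r s => hsmul U.unop r s)⟩

end RefHullLib

end
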