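import Groth.Agent.RefHullLib.EvalStalk
import Groth.Agent.CohCmpLib.HomMod
import Groth.Agent.QCohLib.Coherent
import Groth.Agent.DevissLib.ClosedImm

/-!
# Quasi-coherence and coherence of the sheaf Hom
-/

set_option autoImplicit false
universe u

open CategoryTheory CategoryTheory.Limits AlgebraicGeometry TopologicalSpace Opposite

namespace RefHullLib

variable {X : Scheme.{u}} {F G : X.Modules}

theorem germ_ext (M : X.Modules) {U : X.Opens} (s t : Γ(M, U))
    (h : ∀ y (hy : y ∈ U), M.presheaf.germ U y hy s = M.presheaf.germ U y hy t) : s = t :=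
  ProjFormLib.section_ext s t h

theorem hom_sec_ext {U : X.Opens} (g g' : Γ(RefHull.homSh F G, U)) (h : ∀ y : U, g.1 y = g'.1 y) :
    g = g' :=
  Subtype.ext (funext h)

theorem exists_app {U : X.Opens} (g : Γ(RefHull.homSh F G, U)) (a : Γ(F, U)) :
    ∃ p : Γ(G, U), ∀ y (hy : y ∈ U),
      G.presheaf.germ U y hy p = g.1 ⟨y, hy⟩ (F.presheaf.germ U y hy a) := by
  obtain ⟨p, hp⟩ := CohCmpLib.exists_section_of_germs G
    (fun y : U => g.1 y (F.presheaf.germ U y.1 y.2 a)) (fun y => by
      obtain ⟨W, hyW, j, n, hn⟩ := RefHull.isLocSect_of_mem g U (𝟙 U) a y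
      exact ⟨W, j.le, hyW, n, fun z hz => (hn ⟨z, hz⟩).symm⟩)
  exact ⟨p, hp⟩

/-- The value of a section of the sheaf Hom at a section. -/
noncomputable def app {U : X.Opens} (g : Γ(RefHull.homSh F G, U)) (a : Γ(F, U)) : Γ(G, U) :=
  (exists_app g a).choose

theorem germ_app {U : X.Opens} (g : Γ(RefHull.homSh F G, U)) (a : Γ(F, U)) (y : X) (hy : y ∈ U) :
    G.presheaf.germ U y hy (app g a) = g.1 ⟨y, hy⟩ (F.presheaf.germ U y hy a) :=
  (exists_app g a).choose_spec y hy

theorem smul_val {U : X.Opens} (r : Γ(X, U)) (g : Γ(RefHull.homSh F G, U)) (y : U) :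
    (r • g).1 y = X.presheaf.germ U y.1 y.2 r • g.1 y := rfl

theorem res_val {U V : X.Opens} (h : V ≤ U) (g : Γ(RefHull.homSh F G, U)) (y : V) :
    ((RefHull.homSh F G).presheaf.map (homOfLE h).op g).1 y = g.1 ⟨y.1, h y.2⟩ := rfl

/-- A section of the sheaf Hom with prescribed values on generators. -/
theorem exists_sec_of_values {U : X.Opens} {I : Type u} [Fintype I] {e : I → Γ(F, U)}
    (he : QCohLib.GenOn F U e) (t : I → Γ(G, U))
    (h : ∀ y (hy : y ∈ U) (c : I → X.presheaf.stalk y), ∑ i, c i • F.presheaf.germ U y hy (e i) = 0 →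
      ∑ i, c i • G.presheaf.germ U y hy (t i) = 0) :
    ∃ g : Γ(RefHull.homSh F G, U), ∀ i, app g (e i) = t i := by
  classical
  have h2 : ∀ y : U, ∃ g : F.presheaf.stalk y.1 →ₗ[X.presheaf.stalk y.1] G.presheaf.stalk y.1,
      ∀ c, g (Fintype.linearCombination (X.presheaf.stalk y.1) (fun i => F.presheaf.germ U y.1 y.2 (e i)) c) =
        Fintype.linearCombination (X.presheaf.stalk y.1) (fun i => G.presheaf.germ U y.1 y.2 (t i)) c :=
    fun y => exists_lift _ (surjective_of_genOn he _ _) _ fun c hc => by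
      rw [LinearMap.mem_ker, Fintype.linearCombination_apply] at hc ⊢
      exact h y.1 y.2 c hc
  choose g hg using h2
  have hsect : RefHull.IsLocSect F G g := by
    intro V i s y
    obtain ⟨W, hW, hWU, hyW, c, hc⟩ := he V i.le s y.1 y.2
    refine ⟨W, hyW, homOfLE hW, ∑ k, c k • G.presheaf.map (homOfLE hWU).op (t k), fun z => ?_⟩
    have h4 := congrArg (F.presheaf.germ W z.1 z.2) hc
    rw [TopCat.Presheaf.germ_res_apply, germ_sum] at h4
    rw [h4, germ_sum]
    have h5 := hg ⟨z.1, hWU z.2⟩ fun k => X.presheaf.germ W z.1 z.2 (c k)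
    rw [Fintype.linearCombination_apply, Fintype.linearCombination_apply] at h5
    refine Eq.trans (congrArg _ (Finset.sum_congr rfl fun k _ => ?_)) (h5.trans ?_)
    · rw [TopCat.Presheaf.germ_res_apply]
    · refine Finset.sum_congr rfl fun k _ => ?_
      rw [TopCat.Presheaf.germ_res_apply]
  refine ⟨⟨g, hsect⟩, fun k => germ_ext G _ _ fun y hy => ?_⟩
  rw [germ_app]
  have := hg ⟨y, hy⟩ (Pi.single k 1)
  simp only [Fintype.linearCombination_apply, Pi.single_apply, ite_smul, one_smul, zero_smul,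
    Finset.sum_ite_eq', Finset.mem_univ, if_true] at this
  exact this

theorem eq_zero_of_genOn {U : X.Opens} {I : Type u} [Fintype I] {e : I → Γ(F, U)}
    (he : QCohLib.GenOn F U e) (g : Γ(RefHull.homSh F G, U))
    (h : ∀ i y (hy : y ∈ U), g.1 ⟨y, hy⟩ (F.presheaf.germ U y hy (e i)) = 0) : g = 0 := by
  refine hom_sec_ext _ _ fun y => LinearMap.ext fun v => ?_
  obtain ⟨c, rfl⟩ := surjective_of_genOn he y.1 y.2 v
  show g.1 y _ = 0
  rw [Fintype.linearCombination_apply, map_sum]
  exact Finset.sum_eq_zero fun i _ => by rw [map_smul, h i y.1 y.2, smul_zero]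

theorem germ_combination {U : X.Opens} {I : Type*} [Fintype I] {e : I → Γ(F, U)}
    (a : I → Γ(X, U)) (h : ∑ i, a i • e i = 0) (y : X) (hy : y ∈ U) :
    ∑ i, X.presheaf.germ U y hy (a i) • F.presheaf.germ U y hy (e i) = 0 := by
  rw [← germ_sum, h, map_zero]

theorem localizingAt_homSh [Coh.IsQCoh F] [Coh.IsQCoh G] {U : X.Opens} (hU : IsAffineOpen U)
    (hfp : Module.FinitePresentation Γ(X, U) Γ(F, U)) (f : Γ(X, U)) :
    QCohLib.LocalizingAt (RefHull.homSh F G) f := by
  classical
  obtain ⟨n, π₀, hπ₀⟩ := Module.Finite.exists_fin' Γ(X, U) Γ(F, U)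
  let π : (ULift.{u} (Fin n) → Γ(X, U)) →ₗ[Γ(X, U)] Γ(F, U) :=
    π₀ ∘ₗ (LinearEquiv.funCongrLeft Γ(X, U) Γ(X, U) Equiv.ulift.symm).toLinearMap
  have hπ : Function.Surjective π := hπ₀.comp (LinearEquiv.surjective _)
  let e : ULift.{u} (Fin n) → Γ(F, U) := fun i => π (Pi.single i 1)
  have hπe : ∀ a, π a = ∑ i, a i • e i := fun a => by
    conv_lhs => rw [pi_eq_sum_univ' a, map_sum]
    exact Finset.sum_congr rfl fun i _ => map_smul π _ _
  have he : QCohLib.GenOn F U e := QCohLib.genOn_of_span hU e (by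
    rw [eq_top_iff]
    intro b _
    obtain ⟨a, rfl⟩ := hπ b
    rw [hπe]
    exact Submodule.sum_mem _ fun i _ => Submodule.smul_mem _ _ (Submodule.subset_span ⟨i, rfl⟩))
  have hD : X.basicOpen f ≤ U := X.basicOpen_le f
  set f' : Γ(X, X.basicOpen f) := X.presheaf.map (homOfLE hD).op f
  have hloc := QCohLib.localizingAt_of_isQCoh hU G f
  refine ⟨fun s => ?_, fun g hg => ?_⟩
  · haveI : Module.Finite Γ(X, U) (LinearMap.ker π) :=
      Module.Finite.iff_fg.2 (Module.FinitePresentation.fg_ker π hπ)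
    obtain ⟨m, r, hr⟩ := Module.Finite.exists_fin (R := Γ(X, U)) (M := LinearMap.ker π)
    have h1 : ∀ i, ∃ (k : ℕ) (t : Γ(G, U)), G.presheaf.map (homOfLE hD).op t =
        f' ^ k • app s (F.presheaf.map (homOfLE hD).op (e i)) := fun i => hloc.exists_extend _
    choose k t ht using h1
    let N := ∑ i, k i
    have hk : ∀ i, k i ≤ N := fun i => Finset.single_le_sum (fun _ _ => Nat.zero_le _) (Finset.mem_univ i)
    let t' : ULift.{u} (Fin n) → Γ(G, U) := fun i => f ^ (N - k i) • t i
    have ht' : ∀ i, G.presheaf.map (homOfLE hD).op (t' i) =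
        f' ^ N • app s (F.presheaf.map (homOfLE hD).op (e i)) := fun i => by
      rw [Scheme.Modules.map_smul, ht i, ← mul_smul, map_pow, ← pow_add, Nat.sub_add_cancel (hk i)]
    have hgerm : ∀ i y (hy : y ∈ X.basicOpen f), G.presheaf.germ U y (hD hy) (t' i) =
        X.presheaf.germ U y (hD hy) f ^ N • s.1 ⟨y, hy⟩ (F.presheaf.germ U y (hD hy) (e i)) := by
      intro i y hy
      have := congrArg (G.presheaf.germ (X.basicOpen f) y hy) (ht' i)
      refine (TopCat.Presheaf.germ_res_apply G.presheaf _ _ _ _).symm.trans (this.trans ?_)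
      rw [Mero.germ_smul, germ_app, map_pow, TopCat.Presheaf.germ_res_apply,
        TopCat.Presheaf.germ_res_apply]
    have hrel : ∀ j, G.presheaf.map (homOfLE hD).op (∑ i, (r j).1 i • t' i) = 0 := fun j => by
      refine germ_ext G _ _ fun y hy => ?_
      rw [TopCat.Presheaf.germ_res_apply, germ_sum, map_zero]
      calc ∑ i, X.presheaf.germ U y (hD hy) ((r j).1 i) • G.presheaf.germ U y (hD hy) (t' i)
          = X.presheaf.germ U y (hD hy) f ^ N •
            s.1 ⟨y, hy⟩ (∑ i, X.presheaf.germ U y (hD hy) ((r j).1 i) •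
              F.presheaf.germ U y (hD hy) (e i)) := by
            rw [map_sum, Finset.smul_sum]
            exact Finset.sum_congr rfl fun i _ => by rw [hgerm, map_smul, smul_comm]
        _ = 0 := by
            rw [germ_combination (F := F) (r j).1 ((hπe _).symm.trans (r j).2) y (hD hy), map_zero, smul_zero]
    choose q hq using fun j => hloc.eq_zero _ (hrel j)
    let M := ∑ j, q j
    have hqM : ∀ j, q j ≤ M := fun j => Finset.single_le_sum (fun _ _ => Nat.zero_le _) (Finset.mem_univ j)
    let t'' : ULift.{u} (Fin n) → Γ(G, U) := fun i => f ^ M • t' i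
    have hrel' : ∀ j, ∑ i, (r j).1 i • t'' i = 0 := fun j => by
      have h2 := hq j
      simp only [homOfLE_refl, op_id, CategoryTheory.Functor.map_id] at h2
      change f ^ q j • _ = 0 at h2
      calc ∑ i, (r j).1 i • t'' i = f ^ (M - q j) • f ^ q j • ∑ i, (r j).1 i • t' i := by
            rw [← mul_smul, ← pow_add, Nat.sub_add_cancel (hqM j), Finset.smul_sum]
            exact Finset.sum_congr rfl fun i _ => by rw [smul_comm]
        _ = 0 := by rw [h2, smul_zero]
    obtain ⟨L, hL⟩ := exists_lift π hπ (Fintype.linearCombination Γ(X, U) t'') fun c hc => by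
      obtain ⟨d, hd⟩ := (Submodule.mem_span_range_iff_exists_fun Γ(X, U)).1
        (show (⟨c, hc⟩ : LinearMap.ker π) ∈ Submodule.span Γ(X, U) (Set.range r) from hr ▸ Submodule.mem_top)
      rw [LinearMap.mem_ker, ← show ((∑ j, d j • r j : LinearMap.ker π) : ULift.{u} (Fin n) → Γ(X, U)) = c
        from congrArg Subtype.val hd, Submodule.coe_sum, map_sum]
      refine Finset.sum_eq_zero fun j _ => ?_
      rw [Submodule.coe_smul, map_smul, Fintype.linearCombination_apply, hrel' j, smul_zero]
    obtain ⟨g, hg⟩ := exists_sec_of_values (G := G) he t'' fun y hy c hc => by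
      -- relations at stalks come from relations of sections
      letI := Module.compHom (F.presheaf.stalk y) (X.presheaf.germ U y hy).hom
      haveI := FlatLib.isLocalizedModule_germLin F hU hy
      set p := (hU.primeIdealOf ⟨y, hy⟩).asIdeal
      letI : Algebra Γ(X, U) (X.presheaf.stalk y) := (X.presheaf.germ U y hy).hom.toAlgebra
      haveI hloc : IsLocalization.AtPrime (X.presheaf.stalk y) p := hU.isLocalization_stalk ⟨y, hy⟩
      obtain ⟨b, hb⟩ := IsLocalization.exist_integer_multiples_of_finite p.primeCompl c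
      choose a ha using fun i => hb i
      have ha' : ∀ i, X.presheaf.germ U y hy (a i) = X.presheaf.germ U y hy b * c i := fun i =>
        (ha i).trans (Algebra.smul_def (R := Γ(X, U)) (A := X.presheaf.stalk y) (b : Γ(X, U)) (c i))
      have h0 : F.presheaf.germ U y hy (π a) = 0 := by
        rw [hπe, germ_sum]
        calc ∑ i, X.presheaf.germ U y hy (a i) • F.presheaf.germ U y hy (e i)
            = X.presheaf.germ U y hy b • ∑ i, c i • F.presheaf.germ U y hy (e i) := by
              rw [Finset.smul_sum]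
              exact Finset.sum_congr rfl fun i _ => by rw [ha', mul_smul]
          _ = 0 := by rw [hc, smul_zero]
      obtain ⟨w, hw⟩ := (IsLocalizedModule.eq_zero_iff p.primeCompl (FlatLib.germLin F hy) (m := π a)).1 h0
      have h3 : ∑ i, ((w : Γ(X, U)) * a i) • t'' i = 0 := by
        have := hL ((w : Γ(X, U)) • a)
        rw [map_smul π, show (w : Γ(X, U)) • π a = 0 from hw, map_zero,
          Fintype.linearCombination_apply] at this
        exact this.symm
      have h4 := germ_combination (F := G) _ h3 y hy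
      have hu : IsUnit (X.presheaf.germ U y hy ((w : Γ(X, U)) * b)) :=
        IsLocalization.map_units (X.presheaf.stalk y) (w * b)
      rw [← hu.smul_eq_zero, Finset.smul_sum]
      refine Eq.trans (Finset.sum_congr rfl fun i _ => ?_) h4
      rw [map_mul, map_mul, ha', mul_smul, mul_smul, mul_smul, smul_comm]
    refine ⟨M + N, g, hom_sec_ext _ _ fun y => LinearMap.ext fun v => ?_⟩
    obtain ⟨c, rfl⟩ := surjective_of_genOn he y.1 (hD y.2) v
    rw [Fintype.linearCombination_apply, map_sum, map_sum]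
    refine Finset.sum_congr rfl fun i _ => ?_
    rw [map_smul, map_smul]
    refine congrArg (_ • ·) ?_
    show g.1 ⟨y.1, hD y.2⟩ _ = (X.presheaf.germ (X.basicOpen f) y.1 y.2 (f' ^ (M + N)) • s.1 y) _
    rw [← germ_app g (e i) y.1 (hD y.2), hg i, Mero.germ_smul, hgerm i y.1 y.2, map_pow, map_pow,
      TopCat.Presheaf.germ_res_apply, LinearMap.smul_apply, ← mul_smul, ← pow_add]
  · have h1 : ∀ i, G.presheaf.map (homOfLE hD).op (app g (e i)) = 0 := fun i => by
      refine germ_ext G _ _ fun y hy => ?_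
      rw [TopCat.Presheaf.germ_res_apply, germ_app, map_zero]
      exact LinearMap.congr_fun (congrArg (fun z : Γ(RefHull.homSh F G, X.basicOpen f) => z.1 ⟨y, hy⟩) hg) _
    choose q hq using fun i => hloc.eq_zero _ (h1 i)
    refine ⟨∑ i, q i, ?_⟩
    simp only [homOfLE_refl, op_id, CategoryTheory.Functor.map_id]
    refine eq_zero_of_genOn he _ fun i y hy => ?_
    change (X.presheaf.germ U y hy (f ^ (∑ i, q i)) • g.1 ⟨y, hy⟩) _ = 0
    have h2 := hq i
    simp only [homOfLE_refl, op_id, CategoryTheory.Functor.map_id] at h2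
    change f ^ q i • _ = 0 at h2
    have h3 := congrArg (G.presheaf.germ U y hy) h2
    rw [Mero.germ_smul, germ_app, map_zero, map_pow] at h3
    rw [LinearMap.smul_apply, map_pow,
      ← Nat.sub_add_cancel (Finset.single_le_sum (fun j _ => Nat.zero_le (q j)) (Finset.mem_univ i)),
      pow_add, mul_smul, h3, smul_zero]

theorem isQCoh_homSh [Coh.IsQCoh G] (hF : CohB1.IsFP F) : Coh.IsQCoh (RefHull.homSh F G) := by
  haveI : SheafOfModules.IsFinitePresentation (R := X.ringCatSheaf) F := hF
  haveI : Coh.IsQCoh F := inferInstance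
  choose W hW _ hxW hfp using fun x : X =>
    FlatLib.exists_finitePresentation_nhd hF (U := ⊤) (x := x) trivial
  exact QCohLib.isQCoh_of_localizingAt _ W hW
    (eq_top_iff.2 fun x _ => Opens.mem_iSup.2 ⟨x, hxW x⟩) fun x f => localizingAt_homSh (hW x) (hfp x) f

theorem isCoh_homSh [IsLocallyNoetherian X] (hF : Coh.IsCoh F) (hG : Coh.IsCoh G) :
    Coh.IsCoh (RefHull.homSh F G) := by
  haveI := hF.1
  haveI := hG.1
  haveI hq : Coh.IsQCoh (RefHull.homSh F G) := isQCoh_homSh (QCohLib.isFP_of_isCoh F hF)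
  refine ⟨hq, QCohLib.isFT_of_finite fun p => ?_⟩
  obtain ⟨U, hU, hpU, -⟩ := exists_isAffineOpen_mem_and_subset (x := p) (U := (⊤ : X.Opens)) trivial
  haveI : IsNoetherianRing Γ(X, U) := IsLocallyNoetherian.component_noetherian ⟨U, hU⟩
  haveI := QCohLib.finite_of_isFT hF.2 hU
  haveI := QCohLib.finite_of_isFT hG.2 hU
  refine ⟨U, hU, hpU, ?_⟩
  obtain ⟨I, _, e, he⟩ := QCohLib.exists_genOn_affine hF.2 hU
  let Φ : Γ(RefHull.homSh F G, U) →ₗ[Γ(X, U)] (I → Γ(G, U)) :=
    { toFun := fun g i => app g (e i)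
      map_add' := fun g g' => funext fun i => germ_ext G _ _ fun y hy => by
        rw [Pi.add_apply, map_add, germ_app, germ_app, germ_app]; rfl
      map_smul' := fun r g => funext fun i => germ_ext G _ _ fun y hy => by
        rw [RingHom.id_apply, Pi.smul_apply, Mero.germ_smul, germ_app, germ_app]; rfl }
  refine Module.Finite.of_injective Φ ((injective_iff_map_eq_zero Φ).2 fun g hg =>
    eq_zero_of_genOn he g fun i y hy => ?_)
  rw [← germ_app g (e i) y hy, show app g (e i) = 0 from congrFun hg i, map_zero]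

theorem isCoh_dual [IsLocallyNoetherian X] (hF : Coh.IsCoh F) : Coh.IsCoh (RefHull.dual F) :=
  isCoh_homSh hF (DevissLib.isCoh_structureModule X)

end RefHullLib
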