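import Groth.Agent.RefHullLib.Coherent
import Groth.Agent.FiltSectLib.Stalks

/-!
# Reflexivity read on stalks
-/

set_option autoImplicit false
universe u

open CategoryTheory CategoryTheory.Limits AlgebraicGeometry TopologicalSpace Opposite

namespace RefHullLib

variable {X : Scheme.{u}}

/-- The stalk of the structure module is the local ring. -/
theorem nonempty_stalk_unit (X : Scheme.{u}) (x : X) :
    Nonempty (X.presheaf.stalk x ≃ₗ[X.presheaf.stalk x] (Coh.structureModule X).presheaf.stalk x) := by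
  let one : Γ(Coh.structureModule X, (⊤ : X.Opens)) := (1 : Γ(X, ⊤))
  let t : LinearMap _ (X.presheaf.stalk x) ((Coh.structureModule X).presheaf.stalk x) :=
    LinearMap.toSpanSingleton (X.presheaf.stalk x) _ ((Coh.structureModule X).presheaf.germ ⊤ x trivial one)
  have key : ∀ (V : X.Opens) (hx : x ∈ V) (r : Γ(X, V)),
      t (X.presheaf.germ V x hx r) =
        (Coh.structureModule X).presheaf.germ V x hx (show Γ(Coh.structureModule X, V) from r) := by
    intro V hx r
    rw [LinearMap.toSpanSingleton_apply,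
      ← TopCat.Presheaf.germ_res_apply (Coh.structureModule X).presheaf (homOfLE (le_top : V ≤ ⊤)) x hx one,
      ← Mero.germ_smul]
    refine congrArg _ ?_
    change r * X.presheaf.map (homOfLE (le_top : V ≤ ⊤)).op 1 = r
    rw [map_one, mul_one]
  refine ⟨LinearEquiv.ofBijective t ⟨(injective_iff_map_eq_zero t).2 fun a ha => ?_, fun v => ?_⟩⟩
  · obtain ⟨V, hxV, r, rfl⟩ := TopCat.Presheaf.exists_germ_eq X.presheaf (x := x) a
    rw [key V hxV r] at ha
    obtain ⟨W, hxW, i₁, i₂, hW⟩ := (Coh.structureModule X).presheaf.germ_eq x hxV hxV _ 0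
      (ha.trans (map_zero _).symm)
    rw [map_zero] at hW
    rw [← TopCat.Presheaf.germ_res_apply X.presheaf i₁ x hxW r]
    change X.presheaf.germ W x hxW ((Coh.structureModule X).presheaf.map i₁.op
      (show Γ(Coh.structureModule X, V) from r) : Γ(X, W)) = 0
    rw [hW]
    exact map_zero _
  · obtain ⟨V, hxV, s, rfl⟩ := TopCat.Presheaf.exists_germ_eq (Coh.structureModule X).presheaf (x := x) v
    exact ⟨X.presheaf.germ V x hxV (show Γ(X, V) from s), key V hxV _⟩

theorem isReflexiveAt_iff {F : X.Modules} (hF : CohB1.IsFP F) (x : X) :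
    RefHull.IsReflexiveAt F x ↔ Function.Bijective (RefHull.bidualAt F x) := by
  obtain ⟨e⟩ := nonempty_stalk_unit X x
  let ev : (RefHull.dual F).presheaf.stalk x ≃ₗ[X.presheaf.stalk x]
      Module.Dual (X.presheaf.stalk x) (F.presheaf.stalk x) :=
    (LinearEquiv.ofBijective _ (evalStalk_bijective (G := Coh.structureModule X) hF x)).trans
      (LinearEquiv.congrRight e.symm)
  let Ψ : Module.Dual (X.presheaf.stalk x) (Module.Dual (X.presheaf.stalk x) (F.presheaf.stalk x)) ≃ₗ[X.presheaf.stalk x]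
      RefHull.StalkHom (RefHull.dual F) (Coh.structureModule X) x :=
    LinearEquiv.arrowCongr ev.symm e
  have key : (RefHull.bidualAt F x : _ → _) =
      Ψ ∘ Module.Dual.eval (X.presheaf.stalk x) (F.presheaf.stalk x) := by
    funext v
    refine LinearMap.ext fun θ => ?_
    simp [Ψ, ev, LinearEquiv.congrRight, LinearEquiv.arrowCongr]
  rw [key, EquivLike.comp_bijective]
  exact ⟨fun h => h.bijective_dual_eval', fun h => ⟨h⟩⟩

theorem evalStalk_stalkMap_bidualMap (F : X.Modules) (x : X) (v : F.presheaf.stalk x) :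
    RefHull.evalStalk (RefHull.dual F) (Coh.structureModule X) x (RefHull.stalkMapₗ (RefHull.bidualMap F) x v) =
      RefHull.bidualAt F x v := by
  obtain ⟨U, hx, s, rfl⟩ := TopCat.Presheaf.exists_germ_eq F.presheaf (x := x) v
  rw [RefHull.stalkMapₗ_germ, RefHull.evalStalk_germ, RefHull.bidualMap_app_apply]

theorem isIso_iff_stalk {M N : X.Modules} (φ : M ⟶ N) :
    IsIso φ ↔ ∀ x, Function.Bijective (RefHull.stalkMapₗ φ x) := by
  constructor
  · intro h x
    haveI : IsIso φ.mapPresheaf := inferInstanceAs (IsIso ((Scheme.Modules.toPresheaf X).map φ))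
    exact ConcreteCategory.bijective_of_isIso ((TopCat.Presheaf.stalkFunctor Ab x).map φ.mapPresheaf)
  · intro h
    refine FiltSectLib.isIso_of_stalks φ fun x => (ConcreteCategory.isIso_iff_bijective _).2 ?_
    have hfun : ((DerSch.stalkFunctor X x).map φ : _ → _) = RefHull.stalkMapₗ φ x := by
      funext v
      obtain ⟨U, hx, s, rfl⟩ := TopCat.Presheaf.exists_germ_eq M.presheaf (x := x) v
      exact (DerSch.stalkFunctor_map_germ x φ U hx s).trans (RefHull.stalkMapₗ_germ φ x hx s).symm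
    rw [hfun]
    exact h x

/-- Bijectivity on stalks passes to generisations, for quasi-coherent modules. -/
theorem bijective_of_specializes {M N : X.Modules} [Coh.IsQCoh M] [Coh.IsQCoh N] (φ : M ⟶ N) {x y : X}
    (hxy : x ⤳ y) (h : Function.Bijective (RefHull.stalkMapₗ φ y)) :
    Function.Bijective (RefHull.stalkMapₗ φ x) := by
  obtain ⟨U, hU, hy, -⟩ := exists_isAffineOpen_mem_and_subset (x := y) (U := (⊤ : X.Opens)) trivial
  have hx : x ∈ U := hxy.mem_open U.2 hy
  letI := Module.compHom (M.presheaf.stalk x) (X.presheaf.germ U x hx).hom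
  letI := Module.compHom (M.presheaf.stalk y) (X.presheaf.germ U y hy).hom
  letI := Module.compHom (N.presheaf.stalk x) (X.presheaf.germ U x hx).hom
  letI := Module.compHom (N.presheaf.stalk y) (X.presheaf.germ U y hy).hom
  haveI := FlatLib.isLocalizedModule_germLin M hU hx
  haveI := FlatLib.isLocalizedModule_germLin M hU hy
  haveI := FlatLib.isLocalizedModule_germLin N hU hx
  haveI := FlatLib.isLocalizedModule_germLin N hU hy
  have hle : ∀ r : Γ(X, U), r ∈ (hU.primeIdealOf ⟨y, hy⟩).asIdeal.primeCompl →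
      r ∈ (hU.primeIdealOf ⟨x, hx⟩).asIdeal.primeCompl := by
    intro r hr hrx
    refine hr ?_
    have h1 : hU.primeIdealOf ⟨x, hx⟩ ⤳ hU.primeIdealOf ⟨y, hy⟩ := by
      refine hU.fromSpec.isOpenEmbedding.isInducing.specializes_iff.1 ?_
      rw [hU.fromSpec_primeIdealOf, hU.fromSpec_primeIdealOf]
      exact hxy
    exact (PrimeSpectrum.le_iff_specializes _ _).2 h1 hrx
  have hu : ∀ r : Γ(X, U), r ∈ (hU.primeIdealOf ⟨x, hx⟩).asIdeal.primeCompl →
      IsUnit (X.presheaf.germ U x hx r) := fun r hr => by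
    letI : Algebra Γ(X, U) (X.presheaf.stalk x) := (X.presheaf.germ U x hx).hom.toAlgebra
    haveI : IsLocalization.AtPrime (X.presheaf.stalk x) (hU.primeIdealOf ⟨x, hx⟩).asIdeal :=
      hU.isLocalization_stalk ⟨x, hx⟩
    exact IsLocalization.map_units (X.presheaf.stalk x) ⟨r, hr⟩
  refine ⟨(injective_iff_map_eq_zero _).2 fun v hv => ?_, fun v => ?_⟩
  · obtain ⟨⟨a, s⟩, hs⟩ := IsLocalizedModule.surj (hU.primeIdealOf ⟨x, hx⟩).asIdeal.primeCompl
      (FlatLib.germLin M hx) v
    change X.presheaf.germ U x hx (s : Γ(X, U)) • v = M.presheaf.germ U x hx a at hs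
    have h0 : N.presheaf.germ U x hx (φ.app U a) = 0 := by
      rw [← RefHull.stalkMapₗ_germ, ← hs, map_smul, hv, smul_zero]
    obtain ⟨w, hw⟩ := (IsLocalizedModule.eq_zero_iff (hU.primeIdealOf ⟨x, hx⟩).asIdeal.primeCompl
      (FlatLib.germLin N hx) (m := φ.app U a)).1 h0
    change (w : Γ(X, U)) • φ.app U a = 0 at hw
    have h1 : M.presheaf.germ U y hy ((w : Γ(X, U)) • a) = 0 := h.1 (by
      rw [RefHull.stalkMapₗ_germ, Scheme.Modules.Hom.app_smul, hw, map_zero, map_zero])
    obtain ⟨z, hz⟩ := (IsLocalizedModule.eq_zero_iff (hU.primeIdealOf ⟨y, hy⟩).asIdeal.primeCompl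
      (FlatLib.germLin M hy) (m := (w : Γ(X, U)) • a)).1 h1
    have h2 := congrArg (M.presheaf.germ U x hx) hz
    change M.presheaf.germ U x hx ((z : Γ(X, U)) • (w : Γ(X, U)) • a) = M.presheaf.germ U x hx 0 at h2
    rw [Mero.germ_smul, Mero.germ_smul, map_zero, (hu _ (hle _ z.2)).smul_eq_zero,
      (hu _ w.2).smul_eq_zero, ← hs, (hu _ s.2).smul_eq_zero] at h2
    exact h2
  · obtain ⟨⟨b, s⟩, hs⟩ := IsLocalizedModule.surj (hU.primeIdealOf ⟨x, hx⟩).asIdeal.primeCompl
      (FlatLib.germLin N hx) v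
    change X.presheaf.germ U x hx (s : Γ(X, U)) • v = N.presheaf.germ U x hx b at hs
    obtain ⟨w, hw⟩ := h.2 (N.presheaf.germ U y hy b)
    obtain ⟨⟨a, t⟩, ht⟩ := IsLocalizedModule.surj (hU.primeIdealOf ⟨y, hy⟩).asIdeal.primeCompl
      (FlatLib.germLin M hy) w
    change X.presheaf.germ U y hy (t : Γ(X, U)) • w = M.presheaf.germ U y hy a at ht
    have h1 : N.presheaf.germ U y hy ((t : Γ(X, U)) • b) = N.presheaf.germ U y hy (φ.app U a) := by
      rw [Mero.germ_smul, ← hw, ← map_smul, ht, RefHull.stalkMapₗ_germ]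
    obtain ⟨z, hz⟩ := (IsLocalizedModule.eq_iff_exists (hU.primeIdealOf ⟨y, hy⟩).asIdeal.primeCompl
      (FlatLib.germLin N hy)).1 h1
    have h2 := congrArg (N.presheaf.germ U x hx) hz
    change N.presheaf.germ U x hx ((z : Γ(X, U)) • (t : Γ(X, U)) • b) =
      N.presheaf.germ U x hx ((z : Γ(X, U)) • φ.app U a) at h2
    rw [Mero.germ_smul, Mero.germ_smul, Mero.germ_smul, (hu _ (hle _ z.2)).smul_left_cancel, ← hs] at h2
    obtain ⟨u', hu'⟩ := (hu _ (hle _ t.2)).mul (hu _ s.2)
    refine ⟨(↑u'⁻¹ : X.presheaf.stalk x) • M.presheaf.germ U x hx a, ?_⟩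
    rw [map_smul, RefHull.stalkMapₗ_germ, ← h2, ← mul_smul, ← mul_smul, mul_assoc, ← hu', Units.inv_mul, one_smul]

variable [IsLocallyNoetherian X] {F : X.Modules}

theorem bijective_stalk_bidual_iff (hF : Coh.IsCoh F) (x : X) :
    Function.Bijective (RefHull.stalkMapₗ (RefHull.bidualMap F) x) ↔ RefHull.IsReflexiveAt F x := by
  rw [isReflexiveAt_iff (QCohLib.isFP_of_isCoh F hF) x,
    show (RefHull.bidualAt F x : _ → _) = RefHull.evalStalk (RefHull.dual F) (Coh.structureModule X) x ∘
      RefHull.stalkMapₗ (RefHull.bidualMap F) x from funext fun v => (evalStalk_stalkMap_bidualMap F x v).symm,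
    Function.Bijective.of_comp_iff' (evalStalk_bijective (QCohLib.isFP_of_isCoh _ (isCoh_dual hF)) x)]

theorem isReflexive_iff (hF : Coh.IsCoh F) : RefHull.IsReflexive F ↔ ∀ x, RefHull.IsReflexiveAt F x :=
  (isIso_iff_stalk (RefHull.bidualMap F)).trans (forall_congr' fun x => bijective_stalk_bidual_iff hF x)

theorem isReflexiveAt_of_specializes (hF : Coh.IsCoh F) {x y : X} (hxy : x ⤳ y)
    (h : RefHull.IsReflexiveAt F y) : RefHull.IsReflexiveAt F x := by
  haveI := hF.1
  haveI : Coh.IsQCoh (RefHull.ddual F) := (isCoh_dual (isCoh_dual hF)).1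
  exact (bijective_stalk_bidual_iff hF x).1
    (bijective_of_specializes _ hxy ((bijective_stalk_bidual_iff hF y).2 h))

end RefHullLib
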