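import Groth.Agent.RefHullLib.NormalHull
import Groth.Agent.FiltSectLib.Stalks

/-!
# Open subschemes with small complement
-/

set_option autoImplicit false
set_option linter.style.haveILetI false
universe u

open CategoryTheory CategoryTheory.Limits AlgebraicGeometry TopologicalSpace Opposite

noncomputable section

namespace RefHullLib

section Transport

variable {R S : Type u} [CommRing R] [CommRing S] (σ : R ≃+* S)
  {M N : Type u} [AddCommGroup M] [Module R M] [AddCommGroup N] [Module S N] (θ : M ≃+ N)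
  (hθ : ∀ (r : R) (m : M), θ (r • m) = σ r • θ m)

include hθ in
theorem free_transport [Module.Free S N] : Module.Free R M := by
  let b := Module.Free.chooseBasis S N
  let e : M ≃+ (Module.Free.ChooseBasisIndex S N →₀ R) :=
    θ.trans (b.repr.toAddEquiv.trans (Finsupp.mapRange.addEquiv σ.symm.toAddEquiv))
  refine Module.Free.of_basis (Module.Basis.ofRepr { e with map_smul' := fun r m => Finsupp.ext fun i => ?_ })
  show σ.symm (b.repr (θ (r • m)) i) = r • σ.symm (b.repr (θ m) i)
  rw [hθ, map_smul, Finsupp.smul_apply, smul_eq_mul, smul_eq_mul, map_mul, σ.symm_apply_apply]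

include hθ in
theorem theta_symm (s : S) (n : N) : θ.symm (s • n) = σ.symm s • θ.symm n :=
  θ.injective (by rw [θ.apply_symm_apply, hθ, σ.apply_symm_apply, θ.apply_symm_apply])

/-- Semilinear duality. -/
def dualAdd : Module.Dual S N ≃+ Module.Dual R M where
  toFun ψ :=
    { toFun := fun m => σ.symm (ψ (θ m))
      map_add' := fun a b => by simp
      map_smul' := fun r m => by simp [hθ] }
  invFun φ :=
    { toFun := fun n => σ (φ (θ.symm n))
      map_add' := fun a b => by simp
      map_smul' := fun s n => by simp [theta_symm σ θ hθ] }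
  left_inv ψ := LinearMap.ext fun n => by simp
  right_inv φ := LinearMap.ext fun m => by simp
  map_add' a b := LinearMap.ext fun m => by simp

theorem dualAdd_apply (ψ : Module.Dual S N) (m : M) : dualAdd σ θ hθ ψ m = σ.symm (ψ (θ m)) := rfl

theorem dualAdd_smul (s : S) (ψ : Module.Dual S N) :
    dualAdd σ θ hθ (s • ψ) = σ.symm s • dualAdd σ θ hθ ψ := LinearMap.ext fun m => by simp [dualAdd_apply]

include hθ in
theorem reflexive_transport [Module.IsReflexive S N] : Module.IsReflexive R M := by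
  let D := dualAdd σ θ hθ
  let DD := dualAdd σ.symm D (dualAdd_smul σ θ hθ)
  refine ⟨?_⟩
  have key : (Module.Dual.eval R M : M → _) = DD.symm ∘ Module.Dual.eval S N ∘ θ := by
    funext m
    refine DD.injective ?_
    rw [Function.comp_apply, Function.comp_apply, AddEquiv.apply_symm_apply]
    refine LinearMap.ext fun ψ => ?_
    rw [dualAdd_apply]
    show σ.symm.symm (σ.symm (ψ (θ m))) = ψ (θ m)
    simp
  rw [key]
  exact DD.symm.bijective.comp ((Module.bijective_dual_eval S N).comp θ.bijective)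

end Transport

variable {X : Scheme.{u}}

/-- Stalks of a restriction, semilinearly. -/
theorem exists_restrict_stalk {V : Scheme.{u}} (j : V ⟶ X) [IsOpenImmersion j] (E : X.Modules) (p : V) :
    ∃ (σ : V.presheaf.stalk p ≃+* X.presheaf.stalk (j p))
      (θ : (E.restrict j).presheaf.stalk p ≃+ E.presheaf.stalk (j p)),
      ∀ c a, θ (c • a) = σ c • θ a := by
  let θ₀ := (Scheme.Modules.restrictStalkNatIso j p).hom.app E
  let σ₀ := inv (j.stalkMap p)
  have hσg : ∀ (W : V.Opens) (hW : p ∈ W) (r : Γ(V, W)),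
      σ₀ (V.presheaf.germ W p hW r) = X.presheaf.germ (j ''ᵁ W) (j p) ⟨p, hW, rfl⟩ ((j.appIso W).inv r) := by
    intro W hW r
    apply (ConcreteCategory.bijective_of_isIso (j.stalkMap p)).1
    rw [← ConcreteCategory.comp_apply, IsIso.inv_hom_id, ConcreteCategory.id_apply,
      Scheme.Hom.germ_stalkMap_apply, ← ConcreteCategory.comp_apply (j.appIso W).inv,
      Scheme.Hom.appIso_inv_app, TopCat.Presheaf.germ_res_apply']
  have hθs : ∀ (c : V.presheaf.stalk p) (a : (DerSch.stalkFunctor V p).obj (E.restrict j)),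
      (show (DerSch.stalkFunctor X (j p)).obj E from θ₀ (c • a)) =
        σ₀ c • (show (DerSch.stalkFunctor X (j p)).obj E from θ₀ a) := by
    intro c a
    obtain ⟨W₁, hW₁, a, rfl⟩ := ProjFormLib.exists_ger _ p a
    obtain ⟨W₂, hW₂, r, rfl⟩ := V.presheaf.exists_germ_eq (x := p) c
    rw [← ProjFormLib.ger_res (E.restrict j) (inf_le_left : W₁ ⊓ W₂ ≤ W₁) p ⟨hW₁, hW₂⟩ a,
      ← TopCat.Presheaf.germ_res_apply V.presheaf (homOfLE (inf_le_right : W₁ ⊓ W₂ ≤ W₂)) p ⟨hW₁, hW₂⟩ r,
      ← ProjFormLib.ger_smul, hσg]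
    exact (ConcreteCategory.congr_hom (Scheme.Modules.germ_restrictStalkNatIso_hom_app j p E _) _).trans
      ((ProjFormLib.ger_smul E (j p) _ _ _).trans (congrArg (_ • ·)
        (ConcreteCategory.congr_hom (Scheme.Modules.germ_restrictStalkNatIso_hom_app j p E _) _).symm))
  exact ⟨RingEquiv.ofBijective σ₀.hom (ConcreteCategory.bijective_of_isIso σ₀),
    AddEquiv.ofBijective θ₀.hom (ConcreteCategory.bijective_of_isIso θ₀), hθs⟩

theorem isReflexive_restrict_iff {V : Scheme.{u}} (j : V ⟶ X) [IsOpenImmersion j] (E : X.Modules) (p : V) :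
    Module.IsReflexive (V.presheaf.stalk p) ((E.restrict j).presheaf.stalk p) ↔
      Module.IsReflexive (X.presheaf.stalk (j p)) (E.presheaf.stalk (j p)) := by
  obtain ⟨σ, θ, h⟩ := exists_restrict_stalk j E p
  exact ⟨fun _ => reflexive_transport σ.symm θ.symm (theta_symm σ θ h),
    fun _ => reflexive_transport σ θ h⟩

theorem free_restrict_iff {V : Scheme.{u}} (j : V ⟶ X) [IsOpenImmersion j] (E : X.Modules) (p : V) :
    Module.Free (V.presheaf.stalk p) ((E.restrict j).presheaf.stalk p) ↔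
      Module.Free (X.presheaf.stalk (j p)) (E.presheaf.stalk (j p)) := by
  obtain ⟨σ, θ, h⟩ := exists_restrict_stalk j E p
  exact ⟨fun _ => free_transport σ.symm θ.symm (theta_symm σ θ h),
    fun _ => free_transport σ θ h⟩

theorem free_stalk_of_iso {A B : X.Modules} (e : A ≅ B) (x : X)
    [Module.Free (X.presheaf.stalk x) (A.presheaf.stalk x)] : Module.Free (X.presheaf.stalk x) (B.presheaf.stalk x) :=
  Module.Free.of_equiv (LinearEquiv.ofBijective _ ((isIso_iff_stalk e.hom).1 inferInstance x))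

theorem reflexive_stalk_of_iso {A B : X.Modules} (e : A ≅ B) (x : X)
    [Module.IsReflexive (X.presheaf.stalk x) (A.presheaf.stalk x)] :
    Module.IsReflexive (X.presheaf.stalk x) (B.presheaf.stalk x) :=
  Module.equiv (LinearEquiv.ofBijective _ ((isIso_iff_stalk e.hom).1 inferInstance x))

/-- A map bijective on the stalks of an open subscheme restricts to an isomorphism. -/
theorem isIso_restrict {V : Scheme.{u}} (j : V ⟶ X) [IsOpenImmersion j] {M N : X.Modules}
    (φ : M ⟶ N) (h : ∀ v : V, Function.Bijective (RefHull.stalkMapₗ φ (j v))) :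
    IsIso ((Scheme.Modules.restrictFunctor j).map φ) := by
  refine FiltSectLib.isIso_of_stalks _ fun v => ?_
  have hfun : ((DerSch.stalkFunctor X (j v)).map φ : _ → _) = RefHull.stalkMapₗ φ (j v) := by
    funext w
    obtain ⟨U, hx, s, rfl⟩ := TopCat.Presheaf.exists_germ_eq M.presheaf (x := j v) w
    exact (DerSch.stalkFunctor_map_germ (j v) φ U hx s).trans (RefHull.stalkMapₗ_germ φ (j v) hx s).symm
  rw [ConcreteCategory.isIso_iff_bijective]
  haveI : IsIso ((Scheme.Modules.toPresheaf X ⋙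
      TopCat.Presheaf.stalkFunctor Ab.{u} (j v : X.toTopCat)).map φ) :=
    (ConcreteCategory.isIso_iff_bijective _).2 (show Function.Bijective ⇑((DerSch.stalkFunctor X (j v)).map φ) by
      rw [hfun]; exact h v)
  haveI hv : IsIso ((Scheme.Modules.restrictFunctor j ⋙ Scheme.Modules.toPresheaf V ⋙
      TopCat.Presheaf.stalkFunctor Ab.{u} (v : V.toTopCat)).map φ) :=
    (NatIso.isIso_map_iff (Scheme.Modules.restrictStalkNatIso j v) φ).2 inferInstance
  exact @ConcreteCategory.bijective_of_isIso _ _ _ _ _ _ _ _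
    ((Scheme.Modules.restrictFunctor j ⋙ Scheme.Modules.toPresheaf V ⋙
      TopCat.Presheaf.stalkFunctor Ab.{u} (v : V.toTopCat)).map φ) hv

/-- If sections extend uniquely across the complement of `U`, the unit is an isomorphism. -/
theorem isIso_unit_of_isZClosed [IsLocallyNoetherian X] {Z : Set X} (hZ : StableUnderSpecialization Z) (U : X.Opens) (hU : (U : Set X)ᶜ ⊆ Z)
    {F : X.Modules} (h : ZClos.IsZClosed Z F) : IsIso ((Scheme.Modules.restrictAdjunction U.ι).unit.app F) := by
  obtain ⟨hi, he⟩ := (ZClosLib.isZClosed_iff hZ).1 h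
  refine Scheme.Modules.Hom.isIso_iff_isIso_app.mpr fun W => (ConcreteCategory.isIso_iff_bijective _).mpr ?_
  rw [Scheme.Modules.restrictAdjunction_unit_app_app]
  have hd : (W : Set X) \ (U.ι ''ᵁ (U.ι ⁻¹ᵁ W) : X.Opens) ⊆ Z := fun x hx =>
    hU fun hxU => hx.2 ⟨⟨x, hxU⟩, hx.1, rfl⟩
  exact ⟨fun a b e => hi (U.ι.image_preimage_le W) hd a b e, fun a => he (U.ι.image_preimage_le W) hd a⟩

/-- Hartogs through depth. -/
theorem isIso_unit_of_depth [IsLocallyNoetherian X] (U : X.Opens) {F : X.Modules} (hF : Coh.IsCoh F)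
    (h : ∀ x : X, x ∉ U → (2 : ℕ∞) ≤ LocCoh.depth (X.presheaf.stalk x) (F.presheaf.stalk x)) :
    IsIso ((Scheme.Modules.restrictAdjunction U.ι).unit.app F) := by
  have hZ : StableUnderSpecialization ((U : Set X)ᶜ) := U.isOpen.isClosed_compl.stableUnderSpecialization
  exact isIso_unit_of_isZClosed hZ U subset_rfl (isZClosed_of_depth hZ hF h)

theorem reflexive_stalk_ddual [IsLocallyNoetherian X] [∀ x : X, IsDomain (X.presheaf.stalk x)] {F : X.Modules} (hF : Coh.IsCoh F) (x : X) :
    Module.IsReflexive (X.presheaf.stalk x) ((RefHull.ddual F).presheaf.stalk x) := by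
  have hd := isCoh_dual hF
  haveI := hd.1
  haveI := DepthLib.finite_stalk (RefHull.dual F) hd.2 x
  obtain ⟨e⟩ := nonempty_dual_stalk hd x
  haveI := ReflexLib.isReflexive_dual (A := X.presheaf.stalk x) (M := (RefHull.dual F).presheaf.stalk x)
  exact Module.equiv e.symm

/-- Finite type is inherited by restrictions to opens. -/
theorem isFT_restrict {M : X.Modules} (h : CohB1.IsFT M) (U : X.Opens) :
    CohB1.IsFT (M.restrict U.ι) := by
  refine QCohLib.isFT_of_forall fun p => ?_
  obtain ⟨V₀, hp, n, s₀, hs₀⟩ := QCohLib.exists_genOn_of_isFT h (U.ι p)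
  have hs := hs₀.mono (U' := U.ι ''ᵁ (U.ι ⁻¹ᵁ V₀)) (U.ι.image_preimage_le V₀)
  let s : ULift.{u} (Fin n) → Γ(M.restrict U.ι, U.ι ⁻¹ᵁ V₀) :=
    fun i => M.presheaf.map (homOfLE (U.ι.image_preimage_le V₀)).op (s₀ i)
  refine ⟨U.ι ⁻¹ᵁ V₀, hp, n, s, fun V hV t q hq => ?_⟩
  obtain ⟨W, hW, hWU, hqW, c, hc⟩ := hs (U.ι ''ᵁ V) (U.ι.image_mono hV) t (U.ι q) ⟨q, hq, rfl⟩
  have hle : U.ι ''ᵁ (U.ι ⁻¹ᵁ W) ≤ W := U.ι.image_preimage_le W
  have hW' : U.ι ⁻¹ᵁ W ≤ V := (U.ι.preimage_mono hW).trans (U.ι.preimage_image_eq V).le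
  refine ⟨U.ι ⁻¹ᵁ W, hW', hW'.trans hV, hqW,
    fun i => (U.ι.appIso _).hom (X.presheaf.map (homOfLE hle).op (c i)), ?_⟩
  have h1 := congr_arg (M.presheaf.map (homOfLE hle).op) hc
  rw [QCohLib.map_map', map_sum] at h1
  refine Eq.trans ?_ (h1.trans (Finset.sum_congr rfl fun i _ => ?_))
  · rfl
  · rw [QCohLib.map_smul', QCohLib.map_map']
    refine Eq.trans ?_ (Scheme.Modules.smul_restrictAppIso_hom_apply U.ι M (U.ι ⁻¹ᵁ W) _ _).symm
    exact congr_arg₂ (· • ·)
      (Iso.hom_inv_id_apply (U.ι.appIso _) _).symm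
      rfl

/-- Finite torsion-free modules over normal local rings of dimension at most one are free. -/
theorem free_of_dim_le_one [IsLocallyNoetherian X] (hX : Pi1.IsNormalScheme X) {F : X.Modules} (hF : Coh.IsCoh F)
    {x : X} (hd : ¬ (2 : WithBot ℕ∞) ≤ ringKrullDim (X.presheaf.stalk x))
    [Module.IsTorsionFree (X.presheaf.stalk x) (F.presheaf.stalk x)] :
    Module.Free (X.presheaf.stalk x) (F.presheaf.stalk x) := by
  haveI := (hX x).1
  haveI := (hX x).2
  haveI := hF.1
  haveI := DepthLib.finite_stalk F hF.2 x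
  haveI : Ring.KrullDimLE 1 (X.presheaf.stalk x) := Ring.krullDimLE_iff.2 (by
    rcases ZClosLib.dim_eq_zero_or_one (fun h => hd (mem_dimGe_two.1 h)) with h | h <;> rw [h] <;> norm_num)
  haveI : Ring.DimensionLEOne (X.presheaf.stalk x) :=
    ⟨fun hp hpp => Ring.krullDimLE_one_iff_of_noZeroDivisors.1 ‹_› _ hp hpp⟩
  haveI : IsDedekindDomain (X.presheaf.stalk x) := { }
  exact Module.free_of_flat_of_isLocalRing

end RefHullLib

end
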