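import Groth.Prelude.Def_RefHull
import Groth.Agent.QCohLib.AffineFinite
import Groth.Agent.FlatLib.SectionsFP
import Groth.Agent.FlatLib.QStalk

/-!
# Stalks of the sheaf Hom
-/

set_option autoImplicit false
universe u

open CategoryTheory CategoryTheory.Limits AlgebraicGeometry TopologicalSpace Opposite

namespace RefHullLib

variable {X : Scheme.{u}}

theorem exists_lift {R M P Q : Type*} [CommRing R] [AddCommGroup M] [Module R M] [AddCommGroup P] [Module R P]
    [AddCommGroup Q] [Module R Q] (π : P →ₗ[R] M) (hπ : Function.Surjective π) (ψ : P →ₗ[R] Q)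
    (h : LinearMap.ker π ≤ LinearMap.ker ψ) : ∃ g : M →ₗ[R] Q, ∀ c, g (π c) = ψ c := by
  refine ⟨(LinearMap.ker π).liftQ ψ h ∘ₗ (π.quotKerEquivOfSurjective hπ).symm.toLinearMap, fun c => ?_⟩
  rw [LinearMap.comp_apply, LinearEquiv.coe_coe,
    show π c = π.quotKerEquivOfSurjective hπ (Submodule.Quotient.mk c) from rfl,
    LinearEquiv.symm_apply_apply, Submodule.liftQ_apply]

theorem germ_sum {M : X.Modules} {U : X.Opens} {I : Type*} [Fintype I] (y : X) (hy : y ∈ U)
    (c : I → Γ(X, U)) (e : I → Γ(M, U)) :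
    M.presheaf.germ U y hy (∑ i, c i • e i) =
      ∑ i, X.presheaf.germ U y hy (c i) • M.presheaf.germ U y hy (e i) := by
  rw [map_sum]
  exact Finset.sum_congr rfl fun i _ => Mero.germ_smul M U y hy (c i) (e i)

/-- The stalks over `U` are spanned by the germs of the generators. -/
theorem surjective_of_genOn {M : X.Modules} {U : X.Opens} {I : Type u} [Fintype I] {e : I → Γ(M, U)}
    (h : QCohLib.GenOn M U e) (y : X) (hy : y ∈ U) :
    Function.Surjective (Fintype.linearCombination (X.presheaf.stalk y)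
      fun i => M.presheaf.germ U y hy (e i)) := by
  intro v
  obtain ⟨V, hyV, t, rfl⟩ := TopCat.Presheaf.exists_germ_eq M.presheaf (x := y) v
  obtain ⟨W, hW, hWU, hyW, c, hc⟩ := h (U ⊓ V) inf_le_left
    (M.presheaf.map (homOfLE (inf_le_right : U ⊓ V ≤ V)).op t) y ⟨hy, hyV⟩
  refine ⟨fun i => X.presheaf.germ W y hyW (c i), ?_⟩
  rw [Fintype.linearCombination_apply]
  have h1 := congrArg (M.presheaf.germ W y hyW) hc
  rw [TopCat.Presheaf.germ_res_apply, TopCat.Presheaf.germ_res_apply, germ_sum] at h1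
  rw [h1]
  exact Finset.sum_congr rfl fun i _ => by rw [TopCat.Presheaf.germ_res_apply]

theorem exists_nhd_all {I : Type*} [Finite I] (x : X) (W : I → X.Opens) (hW : ∀ i, x ∈ W i)
    (U : X.Opens) (hU : x ∈ U) : ∃ V : X.Opens, x ∈ V ∧ V ≤ U ∧ ∀ i, V ≤ W i := by
  have : Fintype I := Fintype.ofFinite I
  refine ⟨U ⊓ Finset.univ.inf W, ⟨hU, ?_⟩, inf_le_left,
    fun i => inf_le_right.trans (Finset.inf_le (Finset.mem_univ i))⟩
  have : ∀ s : Finset I, x ∈ s.inf W := by
    intro s
    induction s using Finset.cons_induction with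
    | empty => trivial
    | cons a s ha ih => rw [Finset.inf_cons]; exact ⟨hW a, ih⟩
  exact this _

/-- Finitely many sections with vanishing germs at a point vanish near it. -/
theorem exists_nhd_zero {M : X.Modules} {I : Type*} [Finite I] {U : X.Opens} {x : X} (hx : x ∈ U)
    (s : I → Γ(M, U)) (h : ∀ i, M.presheaf.germ U x hx (s i) = 0) :
    ∃ (V : X.Opens) (hV : V ≤ U), x ∈ V ∧ ∀ i y (hy : y ∈ V), M.presheaf.germ U y (hV hy) (s i) = 0 := by
  have h' : ∀ i, ∃ (W : X.Opens) (hW : W ≤ U), x ∈ W ∧ M.presheaf.map (homOfLE hW).op (s i) = 0 := by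
    intro i
    obtain ⟨W, hxW, iU, iV, hW⟩ := M.presheaf.germ_eq x hx hx (s i) 0 (by rw [h i, map_zero])
    exact ⟨W, leOfHom iU, hxW, by rw [map_zero] at hW; exact hW⟩
  choose W hW hxW hz using h'
  obtain ⟨V, hxV, hVU, hVW⟩ := exists_nhd_all x W hxW U hx
  refine ⟨V, hVU, hxV, fun i y hy => ?_⟩
  have := congrArg (M.presheaf.germ (W i) y (hVW i hy)) (hz i)
  rwa [TopCat.Presheaf.germ_res_apply, map_zero] at this

variable {F G : X.Modules}

theorem evalStalk_injective (hF : CohB1.IsFT F) (x : X) :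
    Function.Injective (RefHull.evalStalk F G x) := by
  rw [injective_iff_map_eq_zero]
  intro θ hθ
  obtain ⟨V, hxV, g, rfl⟩ := TopCat.Presheaf.exists_germ_eq (RefHull.homSh F G).presheaf (x := x) θ
  rw [RefHull.evalStalk_germ] at hθ
  obtain ⟨U, hxU, n, e, he⟩ := QCohLib.exists_genOn_of_isFT hF x
  let V' := U ⊓ V
  have h1 : ∀ i, ∃ (W : X.Opens) (hW : W ≤ V') (m : Γ(G, W)), x ∈ W ∧ ∀ y : W,
      g.1 ⟨y.1, (hW y.2).2⟩ (F.presheaf.germ U y.1 (hW y.2).1 (e i)) = G.presheaf.germ W y.1 y.2 m := by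
    intro i
    obtain ⟨W, hxW, j, m, hm⟩ := RefHull.isLocSect_of_mem g V' (homOfLE inf_le_right)
      (F.presheaf.map (homOfLE (inf_le_left : V' ≤ U)).op (e i)) ⟨x, hxU, hxV⟩
    refine ⟨W, j.le, m, hxW, fun y => ?_⟩
    have := hm y
    rw [TopCat.Presheaf.germ_res_apply] at this
    exact this
  choose W hW m hxW hm using h1
  obtain ⟨V₁, hxV₁, hV₁, hV₁W⟩ := exists_nhd_all x W hxW V' ⟨hxU, hxV⟩
  obtain ⟨V₂, hV₂, hxV₂, hz⟩ := exists_nhd_zero (M := G) hxV₁
    (fun i => G.presheaf.map (homOfLE (hV₁W i)).op (m i)) (fun i => by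
      rw [TopCat.Presheaf.germ_res_apply, ← hm i ⟨x, hxW i⟩]
      exact LinearMap.congr_fun hθ _)
  have hg : (RefHull.homSh F G).presheaf.map (homOfLE ((hV₂.trans hV₁).trans inf_le_right)).op g = 0 := by
    refine Subtype.ext (funext fun y => LinearMap.ext fun v => ?_)
    obtain ⟨c, rfl⟩ := surjective_of_genOn he y.1 (hV₁ (hV₂ y.2)).1 v
    show g.1 ⟨y.1, (hV₁ (hV₂ y.2)).2⟩ _ = 0
    rw [Fintype.linearCombination_apply, map_sum]
    refine Finset.sum_eq_zero fun i _ => ?_
    rw [map_smul, hm i ⟨y.1, hV₁W i (hV₂ y.2)⟩]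
    have := hz i y.1 y.2
    rw [TopCat.Presheaf.germ_res_apply] at this
    rw [this, smul_zero]
  have := congrArg ((RefHull.homSh F G).presheaf.germ V₂ x hxV₂) hg
  rwa [TopCat.Presheaf.germ_res_apply, map_zero] at this

/-- Local presentations on stalks of a finitely presented module. -/
theorem exists_stalk_presentation (hF : CohB1.IsFP F) (x : X) :
    ∃ (U : X.Opens) (_ : x ∈ U) (n m : ℕ) (e : ULift.{u} (Fin n) → Γ(F, U))
      (r : Fin m → ULift.{u} (Fin n) → Γ(X, U)), QCohLib.GenOn F U e ∧ (∀ j, ∑ i, r j i • e i = 0) ∧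
      ∀ (y : X) (hy : y ∈ U) (c : ULift.{u} (Fin n) → X.presheaf.stalk y),
        ∑ i, c i • F.presheaf.germ U y hy (e i) = 0 →
        c ∈ Submodule.span (X.presheaf.stalk y)
          (Set.range fun j i => X.presheaf.germ U y hy (r j i)) := by
  haveI : SheafOfModules.IsFinitePresentation (R := X.ringCatSheaf) F := hF
  haveI : Coh.IsQCoh F := inferInstance
  obtain ⟨W, hW, -, hxW, hfp⟩ := FlatLib.exists_finitePresentation_nhd hF (U := ⊤) (x := x) trivial
  haveI := hfp
  obtain ⟨n, π₀, hπ₀⟩ := Module.Finite.exists_fin' Γ(X, W) Γ(F, W)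
  let π : (ULift.{u} (Fin n) → Γ(X, W)) →ₗ[Γ(X, W)] Γ(F, W) :=
    π₀ ∘ₗ (LinearEquiv.funCongrLeft Γ(X, W) Γ(X, W) Equiv.ulift.symm).toLinearMap
  have hπ : Function.Surjective π := hπ₀.comp (LinearEquiv.surjective _)
  haveI : Module.Finite Γ(X, W) (LinearMap.ker π) :=
    Module.Finite.iff_fg.2 (Module.FinitePresentation.fg_ker π hπ)
  obtain ⟨m, r₀, hr₀⟩ := Module.Finite.exists_fin (R := Γ(X, W)) (M := LinearMap.ker π)
  classical
  let e : ULift.{u} (Fin n) → Γ(F, W) := fun i => π (Pi.single i 1)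
  have he : ∀ a, π a = ∑ i, a i • e i := fun a => by
    conv_lhs => rw [pi_eq_sum_univ' a, map_sum]
    exact Finset.sum_congr rfl fun i _ => map_smul π _ _
  refine ⟨W, hxW, n, m, e, fun j => (r₀ j).1, ?_, fun j => ?_, fun y hy c hc => ?_⟩
  · refine QCohLib.genOn_of_span hW e ?_
    rw [eq_top_iff]
    intro b _
    obtain ⟨a, rfl⟩ := hπ b
    rw [he]
    exact Submodule.sum_mem _ fun i _ => Submodule.smul_mem _ _ (Submodule.subset_span ⟨i, rfl⟩)
  · rw [← he]; exact (r₀ j).2
  · letI := Module.compHom (F.presheaf.stalk y) (X.presheaf.germ W y hy).hom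
    haveI hl := FlatLib.isLocalizedModule_germLin F hW hy
    set p := (hW.primeIdealOf ⟨y, hy⟩).asIdeal
    letI : Algebra Γ(X, W) (X.presheaf.stalk y) := (X.presheaf.germ W y hy).hom.toAlgebra
    haveI hloc : IsLocalization.AtPrime (X.presheaf.stalk y) p := hW.isLocalization_stalk ⟨y, hy⟩
    obtain ⟨b, hb⟩ := IsLocalization.exist_integer_multiples_of_finite p.primeCompl c
    choose a ha using fun i => hb i
    have ha' : ∀ i, X.presheaf.germ W y hy (a i) = X.presheaf.germ W y hy b * c i := fun i => by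
      exact (ha i).trans (Algebra.smul_def (R := Γ(X, W)) (A := X.presheaf.stalk y) (b : Γ(X, W)) (c i))
    have h0 : F.presheaf.germ W y hy (π a) = 0 := by
      rw [he, germ_sum]
      calc ∑ i, X.presheaf.germ W y hy (a i) • F.presheaf.germ W y hy (e i)
          = X.presheaf.germ W y hy b • ∑ i, c i • F.presheaf.germ W y hy (e i) := by
            rw [Finset.smul_sum]
            exact Finset.sum_congr rfl fun i _ => by rw [ha', mul_smul]
        _ = 0 := by rw [hc, smul_zero]
    obtain ⟨w, hw⟩ := (IsLocalizedModule.eq_zero_iff p.primeCompl (FlatLib.germLin F hy) (m := π a)).1 h0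
    have hmem : (w : Γ(X, W)) • a ∈ LinearMap.ker π := by
      rw [LinearMap.mem_ker, map_smul]; exact hw
    obtain ⟨d, hd⟩ := (Submodule.mem_span_range_iff_exists_fun Γ(X, W)).1
      (show (⟨_, hmem⟩ : LinearMap.ker π) ∈ Submodule.span Γ(X, W) (Set.range r₀) from
        hr₀ ▸ Submodule.mem_top)
    have hu : IsUnit (X.presheaf.germ W y hy ((w : Γ(X, W)) * b)) :=
      IsLocalization.map_units (X.presheaf.stalk y) (w * b)
    rw [← Submodule.smul_mem_iff_of_isUnit _ hu, Submodule.mem_span_range_iff_exists_fun]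
    refine ⟨fun j => X.presheaf.germ W y hy (d j), funext fun i => ?_⟩
    have := congrArg (fun z : LinearMap.ker π => X.presheaf.germ W y hy (z.1 i)) hd
    simp only [Submodule.coe_sum, Submodule.coe_smul, Finset.sum_apply, Pi.smul_apply, smul_eq_mul,
      map_sum, map_mul, ha'] at this
    simp only [Finset.sum_apply, Pi.smul_apply, smul_eq_mul, map_mul]
    rw [this, mul_assoc]

theorem evalStalk_surjective (hF : CohB1.IsFP F) (x : X) :
    Function.Surjective (RefHull.evalStalk F G x) := by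
  intro φ
  obtain ⟨U, hxU, n, m, e, r, he, hr, hrel⟩ := exists_stalk_presentation hF x
  have h1 : ∀ i, ∃ (W : X.Opens) (hx : x ∈ W) (s : Γ(G, W)),
      G.presheaf.germ W x hx s = φ (F.presheaf.germ U x hxU (e i)) :=
    fun i => TopCat.Presheaf.exists_germ_eq G.presheaf _
  choose W hxW s hs using h1
  obtain ⟨V₁, hxV₁, hV₁, hV₁W⟩ := exists_nhd_all x W hxW U hxU
  let N : ULift.{u} (Fin n) → Γ(G, V₁) := fun i => G.presheaf.map (homOfLE (hV₁W i)).op (s i)
  have hN : ∀ i, G.presheaf.germ V₁ x hxV₁ (N i) = φ (F.presheaf.germ U x hxU (e i)) := fun i => by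
    rw [TopCat.Presheaf.germ_res_apply, hs]
  obtain ⟨V, hV, hxV, hz⟩ := exists_nhd_zero (M := G) hxV₁
    (fun j => ∑ i, X.presheaf.map (homOfLE hV₁).op (r j i) • N i) (fun j => by
      rw [germ_sum]
      have h2 := congrArg φ (congrArg (F.presheaf.germ U x hxU) (hr j))
      rw [germ_sum, map_zero, map_zero, map_sum] at h2
      rw [← h2]
      refine Finset.sum_congr rfl fun i _ => ?_
      rw [map_smul, hN, TopCat.Presheaf.germ_res_apply])
  have h2 : ∀ y : V, ∃ g : F.presheaf.stalk y.1 →ₗ[X.presheaf.stalk y.1] G.presheaf.stalk y.1,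
      ∀ c, g (Fintype.linearCombination (X.presheaf.stalk y.1)
        (fun i => F.presheaf.germ U y.1 (hV₁ (hV y.2)) (e i)) c) =
        Fintype.linearCombination (X.presheaf.stalk y.1)
          (fun i => G.presheaf.germ V₁ y.1 (hV y.2) (N i)) c := by
    intro y
    refine exists_lift _ (surjective_of_genOn he _ _) _ fun c hc => ?_
    rw [LinearMap.mem_ker, Fintype.linearCombination_apply] at hc
    refine (Submodule.span_le.2 ?_) (hrel y.1 _ c hc)
    rintro _ ⟨j, rfl⟩
    rw [SetLike.mem_coe, LinearMap.mem_ker, Fintype.linearCombination_apply]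
    have h3 := hz j y.1 y.2
    rw [germ_sum] at h3
    refine Eq.trans (Finset.sum_congr rfl fun i _ => ?_) h3
    simp only [N, TopCat.Presheaf.germ_res_apply]
  choose g hg using h2
  have hsect : RefHull.IsLocSect F G g := by
    intro V' i t y
    obtain ⟨W', hW', hW'U, hyW', c, hc⟩ :=
      he V' ((i.le.trans hV).trans hV₁) t y.1 y.2
    refine ⟨W', hyW', homOfLE hW',
      ∑ k, c k • G.presheaf.map (homOfLE ((hW'.trans i.le).trans hV)).op (N k), fun z => ?_⟩
    have h4 := congrArg (F.presheaf.germ W' z.1 z.2) hc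
    rw [TopCat.Presheaf.germ_res_apply, germ_sum] at h4
    rw [h4, germ_sum]
    have h5 := hg ⟨z.1, i.le (hW' z.2)⟩ fun k => X.presheaf.germ W' z.1 z.2 (c k)
    rw [Fintype.linearCombination_apply, Fintype.linearCombination_apply] at h5
    refine Eq.trans (congrArg _ (Finset.sum_congr rfl fun k _ => ?_)) (h5.trans ?_)
    · rw [TopCat.Presheaf.germ_res_apply]
    · refine Finset.sum_congr rfl fun k _ => ?_
      simp only [N, TopCat.Presheaf.germ_res_apply]
  refine ⟨(RefHull.homSh F G).presheaf.germ V x hxV ⟨g, hsect⟩, ?_⟩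
  rw [RefHull.evalStalk_germ]
  refine LinearMap.ext fun v => ?_
  obtain ⟨c, rfl⟩ := surjective_of_genOn he x hxU v
  show g ⟨x, hxV⟩ _ = _
  rw [hg ⟨x, hxV⟩ c, Fintype.linearCombination_apply, Fintype.linearCombination_apply, map_sum]
  exact Finset.sum_congr rfl fun i _ => by rw [map_smul, hN]

theorem isFT_of_isFP (hF : CohB1.IsFP F) : CohB1.IsFT F := by
  haveI : SheafOfModules.IsFinitePresentation (R := X.ringCatSheaf) F := hF
  infer_instance

theorem evalStalk_bijective (hF : CohB1.IsFP F) (x : X) :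
    Function.Bijective (RefHull.evalStalk F G x) :=
  ⟨evalStalk_injective (isFT_of_isFP hF) x, evalStalk_surjective hF x⟩

end RefHullLib
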