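import Groth.Agent.RefHullLib.Generic
import Groth.Prelude.Def_Pi1

/-!
# The bidual on a normal integral scheme
-/

set_option autoImplicit false
set_option linter.style.haveILetI false
universe u

open CategoryTheory CategoryTheory.Limits AlgebraicGeometry TopologicalSpace Opposite
open ModGlueLib (rs rs_rs app_rs exists_glue)

noncomputable section

namespace RefHullLib

variable {X : Scheme.{u}}

theorem stalkMap_comp {A B C : X.Modules} (f : A ⟶ B) (g : B ⟶ C) (x : X) (v : A.presheaf.stalk x) :
    RefHull.stalkMapₗ (f ≫ g) x v = RefHull.stalkMapₗ g x (RefHull.stalkMapₗ f x v) := by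
  obtain ⟨U, hx, s, rfl⟩ := TopCat.Presheaf.exists_germ_eq A.presheaf (x := x) v
  rw [RefHull.stalkMapₗ_germ, RefHull.stalkMapₗ_germ, RefHull.stalkMapₗ_germ]
  rfl

theorem stalkMap_id (A : X.Modules) (x : X) (v : A.presheaf.stalk x) : RefHull.stalkMapₗ (𝟙 A) x v = v := by
  obtain ⟨U, hx, s, rfl⟩ := TopCat.Presheaf.exists_germ_eq A.presheaf (x := x) v
  rw [RefHull.stalkMapₗ_germ]
  rfl

theorem hom_ext_sections {A B : X.Modules} (f g : A ⟶ B)
    (h : ∀ (U : X.Opens) (s : Γ(A, U)), f.app U s = g.app U s) : f = g :=
  Scheme.Modules.hom_ext f g fun U => AddCommGrpCat.ext fun s => h U s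

theorem specializes_generic [IsIntegral X] (x : X) : genericPoint X ⤳ x :=
  (genericPoint_spec X).specializes (Set.mem_univ x)

theorem mem_of_nonempty [IsIntegral X] {W : X.Opens} {x : X} (hx : x ∈ W) : genericPoint X ∈ W :=
  (specializes_generic x).mem_open W.2 hx

theorem eq_generic_of_dim_zero [IsIntegral X] {x : X} (h : ringKrullDim (X.presheaf.stalk x) = 0) :
    x = genericPoint X := by
  rw [ringKrullDim_stalk_eq_coheight] at h
  have h1 : IsMax x := Order.coheight_eq_zero.1 (WithBot.coe_eq_zero.1 h)
  have h2 : x ≤ genericPoint X := Scheme.le_iff_specializes.2 (specializes_generic x)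
  exact ((specializes_generic x).antisymm (Scheme.le_iff_specializes.1 (h1 h2))).eq.symm

variable [IsLocallyNoetherian X]

/-- The stalk of a dual is the dual of the stalk. -/
theorem nonempty_dual_stalk {F : X.Modules} (hF : Coh.IsCoh F) (x : X) :
    Nonempty ((RefHull.dual F).presheaf.stalk x ≃ₗ[X.presheaf.stalk x]
      Module.Dual (X.presheaf.stalk x) (F.presheaf.stalk x)) := by
  obtain ⟨e⟩ := nonempty_stalk_unit X x
  exact ⟨(LinearEquiv.ofBijective _
    (evalStalk_bijective (G := Coh.structureModule X) (QCohLib.isFP_of_isCoh F hF) x)).trans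
      (LinearEquiv.congrRight e.symm)⟩

theorem isReflexive_stalk_dual [IsIntegral X] {F : X.Modules} (hF : Coh.IsCoh F) (x : X) :
    Module.IsReflexive (X.presheaf.stalk x) ((RefHull.dual F).presheaf.stalk x) := by
  obtain ⟨e⟩ := nonempty_dual_stalk hF x
  haveI := hF.1
  haveI := DepthLib.finite_stalk F hF.2 x
  haveI := ReflexLib.isReflexive_dual (A := X.presheaf.stalk x) (M := F.presheaf.stalk x)
  exact Module.equiv e.symm

theorem surjective_bidual_stalk {F : X.Modules} (hF : Coh.IsCoh F) (x : X)
    (h : Function.Surjective (Module.Dual.eval (X.presheaf.stalk x) (F.presheaf.stalk x))) :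
    Function.Surjective (RefHull.stalkMapₗ (RefHull.bidualMap F) x) := by
  obtain ⟨e⟩ := nonempty_stalk_unit X x
  let ev := (LinearEquiv.ofBijective _
    (evalStalk_bijective (G := Coh.structureModule X) (QCohLib.isFP_of_isCoh F hF) x)).trans
      (LinearEquiv.congrRight e.symm)
  let Ψ : Module.Dual (X.presheaf.stalk x) (Module.Dual (X.presheaf.stalk x) (F.presheaf.stalk x)) ≃ₗ[X.presheaf.stalk x]
      RefHull.StalkHom (RefHull.dual F) (Coh.structureModule X) x :=
    LinearEquiv.arrowCongr ev.symm e
  have key : (RefHull.bidualAt F x : _ → _) =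
      Ψ ∘ Module.Dual.eval (X.presheaf.stalk x) (F.presheaf.stalk x) := by
    funext v
    refine LinearMap.ext fun θ => ?_
    simp [Ψ, ev, LinearEquiv.congrRight, LinearEquiv.arrowCongr]
  intro g
  obtain ⟨v, hv⟩ := Ψ.surjective.comp h (RefHull.evalStalk (RefHull.dual F) (Coh.structureModule X) x g)
  exact ⟨v, (evalStalk_bijective (QCohLib.isFP_of_isCoh _ (isCoh_dual hF)) x).1
    ((evalStalk_stalkMap_bidualMap F x v).trans ((congrFun key v).trans hv))⟩

theorem injective_dual_generic [IsIntegral X] {F : X.Modules} (hF : Coh.IsCoh F) (x : X) :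
    Function.Injective ((RefHull.dual F).presheaf.stalkSpecializes (specializes_generic x)).hom := by
  haveI := (isCoh_dual hF).1
  haveI := isReflexive_stalk_dual hF x
  haveI := torsionFree_of_isReflexive (R := X.presheaf.stalk x) ((RefHull.dual F).presheaf.stalk x)
  exact injective_stalkSpecializes_generic _ x _

theorem dual_section_ext [IsIntegral X] {F : X.Modules} (hF : Coh.IsCoh F) {W : X.Opens}
    (a b : Γ(RefHull.dual F, W))
    (h : ∀ hη : genericPoint X ∈ W, (RefHull.dual F).presheaf.germ W _ hη a =
      (RefHull.dual F).presheaf.germ W _ hη b) : a = b :=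
  germ_ext _ a b fun x hx => injective_dual_generic hF x
    ((TopCat.Presheaf.germ_stalkSpecializes_apply _ hx (specializes_generic x) a).trans
      ((h (mem_of_nonempty hx)).trans
        (TopCat.Presheaf.germ_stalkSpecializes_apply _ hx (specializes_generic x) b).symm))

/-- On a normal scheme a dual is `Z`-closed for the points of dimension at least two. -/
theorem isZClosed_dual [IsIntegral X] (hX : Pi1.IsNormalScheme X) {F : X.Modules} (hF : Coh.IsCoh F) :
    ZClos.IsZClosed (ZClos.dimGe X 2) (RefHull.dual F) := by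
  refine isZClosed_of_depth (ZClosLib.stableUnderSpecialization_dimGe 2) (isCoh_dual hF) fun x hx => ?_
  haveI := (hX x).2
  haveI := (isCoh_dual hF).1
  haveI := DepthLib.finite_stalk (RefHull.dual F) (isCoh_dual hF).2 x
  haveI := isReflexive_stalk_dual hF x
  exact depth_reflexive_normal _ (mem_dimGe_two.1 hx)

theorem bijective_bidual_generic [IsIntegral X] (hX : Pi1.IsNormalScheme X) {F : X.Modules} (hF : Coh.IsCoh F) :
    Function.Bijective (RefHull.stalkMapₗ (RefHull.bidualMap F) (genericPoint X)) := by
  haveI := hF.1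
  haveI := DepthLib.finite_stalk F hF.2 (genericPoint X)
  haveI : Module.Free (X.presheaf.stalk (genericPoint X)) (F.presheaf.stalk (genericPoint X)) :=
    Module.Free.of_divisionRing X.functionField _
  exact (bijective_stalk_bidual_iff hF _).2
    (inferInstanceAs (Module.IsReflexive (X.presheaf.stalk (genericPoint X)) (F.presheaf.stalk (genericPoint X))))

theorem surjective_bidual_stalk_of_dim_le_one [IsIntegral X] (hX : Pi1.IsNormalScheme X) {F : X.Modules}
    (hF : Coh.IsCoh F) {x : X} (h : ringKrullDim (X.presheaf.stalk x) ≤ 1) :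
    Function.Surjective (RefHull.stalkMapₗ (RefHull.bidualMap F) x) := by
  haveI := hF.1
  haveI := (hX x).2
  haveI := DepthLib.finite_stalk F hF.2 x
  haveI : Ring.KrullDimLE 1 (X.presheaf.stalk x) := Ring.krullDimLE_iff.2 (by exact_mod_cast h)
  exact surjective_bidual_stalk hF x (surjective_eval_of_dim_le_one _)

end RefHullLib

end
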