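import Groth.Agent.RefHullLib.RankOne
import Groth.Agent.ZClosLib.DimGe
import Groth.Agent.AssPointLib.Basic

/-!
# Hartogs extension through depth
-/

set_option autoImplicit false
universe u

open CategoryTheory CategoryTheory.Limits AlgebraicGeometry TopologicalSpace Opposite
open ModGlueLib (rs rs_rs app_rs exists_glue)

noncomputable section

namespace RefHullLib

variable {X : Scheme.{u}} [IsLocallyNoetherian X]

variable {Z : Set X} (hZ : StableUnderSpecialization Z)

include hZ in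
theorem isZClosed_of_depth {F : X.Modules} (hF : Coh.IsCoh F)
    (hd : ∀ x ∈ Z, (2 : ℕ∞) ≤ LocCoh.depth (X.presheaf.stalk x) (F.presheaf.stalk x)) :
    ZClos.IsZClosed Z F :=
  (isIso_iff_stalk (ZClos.rhoApp Z F)).2 fun x =>
    (show Function.Bijective (ZClos.rhoStalk Z F x) from
      (ZClosLib.isZClosedAt_iff hZ hF x).2 fun y _ hy => hd y hy)

include hZ in
theorem depth_of_isZClosed {F : X.Modules} (hF : Coh.IsCoh F) (h : ZClos.IsZClosed Z F) {x : X} (hx : x ∈ Z) :
    (2 : ℕ∞) ≤ LocCoh.depth (X.presheaf.stalk x) (F.presheaf.stalk x) := by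
  have hb : ZClos.IsZClosedAt Z F x := (isIso_iff_stalk (ZClos.rhoApp Z F)).1 h x
  exact (ZClosLib.isZClosedAt_iff hZ hF x).1 hb x (specializes_refl x) hx

theorem injZ_of_not_ass {G : X.Modules} [Coh.IsQCoh G] (h : ∀ x ∈ Z, ¬ Curv2.IsWeakAssPoint G x) :
    ZClosLib.InjZ Z G := by
  intro W W' hle hd a b hab
  rw [← sub_eq_zero]
  have h0 : rs G hle (a - b) = 0 := by
    show G.presheaf.map (homOfLE hle).op (a - b) = 0
    rw [map_sub, sub_eq_zero]
    exact hab
  refine ProjFormLib.section_ext _ 0 fun x hx => ?_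
  show G.presheaf.germ W x hx (a - b) = G.presheaf.germ W x hx 0
  rw [map_zero]
  by_contra hne
  obtain ⟨U, hU, hxU, hUW⟩ := exists_isAffineOpen_mem_and_subset (x := x) (U := W) hx
  obtain ⟨y, hyU, -, hy, hne'⟩ := AssPointLib.exists_weak_specializes (M := G) hU hxU (rs G hUW (a - b)) (by
    intro h1
    exact hne ((TopCat.Presheaf.germ_res_apply G.presheaf (homOfLE hUW) x hxU (a - b)).symm.trans h1))
  by_cases hyW' : y ∈ W'
  · refine hne' ((TopCat.Presheaf.germ_res_apply G.presheaf (homOfLE hUW) y hyU (a - b)).trans ?_)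
    have h2 := congrArg (G.presheaf.germ W' y hyW') h0
    rw [ZClosLib.germ_rs, map_zero] at h2
    exact h2
  · exact h y (hd ⟨hUW hyU, hyW'⟩) hy

include hZ in
/-- A map from a `Z`-closed module, bijective off `Z`, to a `Z`-pure one is an isomorphism. -/
theorem isIso_of_off {A B : X.Modules} (φ : A ⟶ B) (hA : ZClos.IsZClosed Z A) (hBi : ZClosLib.InjZ Z B)
    (h : ∀ x, x ∉ Z → Function.Bijective (RefHull.stalkMapₗ φ x)) : IsIso φ := by
  obtain ⟨hAi, hAe⟩ := (ZClosLib.isZClosed_iff hZ).mp hA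
  refine RpushLib.isIso_of_bijective_basis φ ZClosLib.isBasis_compact fun W _ => ?_
  have hinj : ∀ U : X.Opens, Function.Injective (φ.app U) := fun U =>
    (injective_iff_map_eq_zero _).mpr fun a ha => ZClosLib.injZ_of_germ hAi a fun x hx hxZ =>
      (h x hxZ).1 ((RefHull.stalkMapₗ_germ φ x hx a).trans
        (((congrArg _ ha).trans (map_zero _)).trans (map_zero _).symm))
  refine ⟨hinj W, fun b => ?_⟩
  let κ := {V : X.Opens // ∃ (hle : V ≤ W) (a : Γ(A, V)), φ.app V a = rs B hle b}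
  choose hle a ha using fun V : κ => V.2
  let W' : X.Opens := ⨆ V : κ, V.1
  obtain ⟨g, hg⟩ := exists_glue (M := A) (V := W') (fun V : κ => V.1) (fun V => le_iSup (fun V : κ => V.1) V)
    (fun x hx => Opens.mem_iSup.mp hx) a fun V V' => hinj _ (by
      rw [app_rs, app_rs, ha, ha, rs_rs, rs_rs])
  have hWle : W' ≤ W := iSup_le hle
  have hloc : ∀ x (hx : x ∈ W), x ∉ Z → ∃ V : κ, x ∈ V.1 := fun x hx hxZ => by
    obtain ⟨gg, hgg⟩ := (h x hxZ).2 (B.presheaf.germ W x hx b)
    obtain ⟨U, hxU, c, rfl⟩ := A.presheaf.germ_exist gg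
    obtain ⟨V, hxV, i, i', e⟩ := TopCat.Presheaf.germ_eq B.presheaf x hxU hx _ _
      ((RefHull.stalkMapₗ_germ φ x hxU c).symm.trans hgg)
    exact ⟨⟨V, i'.le, rs A i.le c, (app_rs φ i.le c).trans e⟩, hxV⟩
  obtain ⟨a', ha'⟩ := hAe hWle (fun x hx => by
    by_contra hxZ
    obtain ⟨V, hV⟩ := hloc x hx.1 hxZ
    exact hx.2 (Opens.mem_iSup.mpr ⟨V, hV⟩)) g
  refine ⟨a', ZClosLib.injZ_of_germ (F := B) hBi _ (fun x hx hxZ => ?_) |> sub_eq_zero.mp⟩
  rw [map_sub, sub_eq_zero]
  obtain ⟨VV, hxV⟩ := hloc x hx hxZ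
  rw [← ZClosLib.germ_rs B (hle VV) hxV, ← ZClosLib.germ_rs B (hle VV) hxV, ← app_rs]
  congr 1
  have e2 : rs A (hle VV) a' = a VV := by
    rw [← hg VV, ← ha', rs_rs]
  rw [e2, ha]

theorem torsionFree_of_isReflexive {R : Type u} [CommRing R] [IsDomain R] (M : Type u) [AddCommGroup M]
    [Module R M] [Module.IsReflexive R M] : Module.IsTorsionFree R M := inferInstance

theorem depth_reflexive {R : Type u} [CommRing R] [IsRegularLocalRing R] (M : Type u)
    [AddCommGroup M] [Module R M] [Module.Finite R M] [Module.IsReflexive R M]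
    (h : (2 : WithBot ℕ∞) ≤ ringKrullDim R) : (2 : ℕ∞) ≤ LocCoh.depth R M := by
  have h2 : (2 : ℕ∞) ≤ LocCoh.depth R R :=
    WithBot.coe_le_coe.1 (h.trans (NormalLib.le_depth_self_of_isRegularLocalRing R))
  exact DepthTwoLib.two_le_iff.2 ((DepthTwoLib.idealDepth_reflexive _).2 (DepthTwoLib.two_le_iff.1 h2))

theorem reflexive_of_torsionFree_of_dim_le_one {R : Type u} [CommRing R] [IsDomain R] [IsRegularLocalRing R] (M : Type u)
    [AddCommGroup M] [Module R M] [Module.Finite R M] [Module.IsTorsionFree R M]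
    (h : ¬ (2 : WithBot ℕ∞) ≤ ringKrullDim R) : Module.IsReflexive R M := by
  haveI := NormalLib.isIntegrallyClosed_of_isRegularLocalRing R
  obtain ⟨d, hd⟩ : ∃ d : ℕ, ringKrullDim R = d := ⟨_, ((isRegularLocalRing_iff R).1 inferInstance).symm⟩
  haveI : Ring.KrullDimLE 1 R := ⟨by
    have h' : ¬ (2 : WithBot ℕ∞) ≤ (d : WithBot ℕ∞) := hd ▸ h
    show ringKrullDim R ≤ _
    rw [hd]
    have : d ≤ 1 := by
      by_contra h1
      exact h' (by exact_mod_cast (show 2 ≤ d by omega))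
    exact_mod_cast this⟩
  exact ReflexLib.isReflexive_of_dim_le_one M

/-- Normality in the sense of extension of sections outside codimension two. -/
def NormalSec (F : X.Modules) : Prop :=
  ∀ (U V : X.Opens) (hVU : V ≤ U), (∀ x : X, x ∈ U → x ∉ V → (2 : WithBot ℕ∞) ≤ ringKrullDim (X.presheaf.stalk x)) →
    Function.Bijective (F.presheaf.map (homOfLE hVU).op)

theorem normalSec_iff (F : X.Modules) : NormalSec F ↔ ZClos.IsZClosed (ZClos.dimGe X 2) F := by
  rw [ZClosLib.isZClosed_iff (ZClosLib.stableUnderSpecialization_dimGe 2)]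
  constructor
  · intro h
    have h' : ∀ {W W' : X.Opens} (hle : W' ≤ W), (W : Set X) \ W' ⊆ ZClos.dimGe X 2 →
        Function.Bijective (F.presheaf.map (homOfLE hle).op) := fun {W W'} hle hd =>
      h W W' hle fun x hx hx' => by exact_mod_cast (hd ⟨hx, hx'⟩ : ((2 : ℕ) : WithBot ℕ∞) ≤ _)
    exact ⟨fun W W' hle hd a b e => (h' hle hd).1 e, fun W W' hle hd a => (h' hle hd).2 a⟩
  · rintro ⟨hi, he⟩ U V hVU hd
    have hd' : (U : Set X) \ V ⊆ ZClos.dimGe X 2 := fun x hx => by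
      show ((2 : ℕ) : WithBot ℕ∞) ≤ _
      exact_mod_cast hd x hx.1 hx.2
    exact ⟨fun a b e => hi hVU hd' a b e, fun a => he hVU hd' a⟩

theorem mem_dimGe_two {x : X} : x ∈ ZClos.dimGe X 2 ↔ (2 : WithBot ℕ∞) ≤ ringKrullDim (X.presheaf.stalk x) := by
  show ((2 : ℕ) : WithBot ℕ∞) ≤ _ ↔ _
  exact Iff.of_eq (by norm_cast)

end RefHullLib

end
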