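import Groth.Agent.RefHullLib.Reflexive
import Groth.Agent.ReflexLib.Ops
import Groth.Agent.DepthLib.RegAB
import Groth.Agent.NormalLib.Regular
import Groth.Agent.RegUFDLib.Basic
import Groth.Agent.S0605
import Groth.Agent.CurveVBLib.Basic

/-!
# Reflexive modules over regular schemes
-/

set_option autoImplicit false
universe u

open CategoryTheory CategoryTheory.Limits AlgebraicGeometry TopologicalSpace Opposite

namespace RefHullLib

theorem dvd_of_forall_dvd_mul {R : Type u} [CommRing R] [IsDomain R] [UniqueFactorizationMonoid R] {κ : Type*}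
    (β : κ → R) (T : Finset κ) (hT : T.Nonempty) (hβ : ∀ q, Prime q → ∃ j ∈ T, ¬ q ∣ β j) {d : R}
    (hd : d ≠ 0) : ∀ g : R, (∀ j ∈ T, d ∣ g * β j) → d ∣ g := by
  induction d using UniqueFactorizationMonoid.induction_on_prime with
  | h₁ => exact absurd rfl hd
  | h₂ d hdu => exact fun g _ => hdu.dvd
  | h₃ d q hd0 hq ih =>
    intro g h
    obtain ⟨j, hjT, hj⟩ := hβ q hq
    obtain ⟨g', rfl⟩ := (hq.dvd_or_dvd ((dvd_mul_right q d).trans (h j hjT))).resolve_right hj
    refine mul_dvd_mul_left q (ih hd0 g' fun j hj => ?_)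
    exact (mul_dvd_mul_iff_left hq.ne_zero).1 (by simpa [mul_assoc] using h j hj)

/-- Over a UFD, the dual of a nonzero finitely generated ideal is free of rank one. -/
theorem free_dual_ideal {R : Type u} [CommRing R] [IsDomain R] [IsNoetherianRing R] [UniqueFactorizationMonoid R]
    (I : Ideal R) : Module.Free R (Module.Dual R I) := by
  classical
  by_cases hI : I = ⊥
  · subst hI
    haveI : Subsingleton (Module.Dual R (⊥ : Ideal R)) :=
      ⟨fun φ ψ => LinearMap.ext fun x => by rw [Subsingleton.elim x 0, map_zero, map_zero]⟩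
    exact Module.Free.of_subsingleton R _
  letI : NormalizedGCDMonoid R := (inferInstance : Nonempty (NormalizedGCDMonoid R)).some
  obtain ⟨S, hS⟩ := (IsNoetherian.noetherian I : I.FG)
  have hS' : ∃ a ∈ S, a ≠ 0 := by
    by_contra h
    push_neg at h
    exact hI (hS ▸ Submodule.span_eq_bot.2 h)
  let T := S.filter fun a => a ≠ 0
  have hT : T.Nonempty := let ⟨a, ha, h0⟩ := hS'; ⟨a, Finset.mem_filter.2 ⟨ha, h0⟩⟩
  obtain ⟨a₀, ha₀⟩ := hT
  obtain ⟨b, hb, hgcd⟩ := Finset.extract_gcd (fun a : R => a) (s := T) ⟨a₀, ha₀⟩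
  let g := T.gcd fun a : R => a
  have hg0 : g ≠ 0 := fun h => (Finset.mem_filter.1 ha₀).2 (Finset.gcd_eq_zero_iff.1 h a₀ ha₀)
  have hdvd : ∀ x ∈ I, g ∣ x := by
    intro x hx
    rw [← hS] at hx
    induction hx using Submodule.span_induction with
    | mem y hy =>
      by_cases h0 : y = 0
      · rw [h0]; exact dvd_zero g
      · exact Finset.gcd_dvd (Finset.mem_filter.2 ⟨hy, h0⟩)
    | zero => exact dvd_zero g
    | add y z _ _ hy hz => exact dvd_add hy hz
    | smul r y _ hy => exact hy.mul_left r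
  choose c hc using fun x : I => hdvd x.1 x.2
  have hcg : ∀ {x y : R}, g * x = g * y → x = y := fun h => mul_left_cancel₀ hg0 h
  let φ₀ : I →ₗ[R] R :=
    { toFun := c
      map_add' := fun x y => hcg (by rw [mul_add, ← hc, ← hc, ← hc]; rfl)
      map_smul' := fun r x => hcg (by
        rw [RingHom.id_apply, smul_eq_mul, mul_left_comm, ← hc, ← hc]; rfl) }
  have hφ₀ : φ₀ ≠ 0 := fun h => (Finset.mem_filter.1 ha₀).2 (by
    have ha : a₀ ∈ I := hS ▸ Submodule.subset_span (Finset.mem_filter.1 ha₀).1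
    have := hc ⟨a₀, ha⟩
    rw [show c ⟨a₀, ha⟩ = φ₀ ⟨a₀, ha⟩ from rfl, h, LinearMap.zero_apply, mul_zero] at this
    exact this)
  have hprim : ∀ q, Prime q → ∃ j ∈ T, ¬ q ∣ b j := fun q hq => by
    by_contra h
    push_neg at h
    exact hq.not_dvd_one (hgcd ▸ Finset.dvd_gcd h)
  refine Module.Free.of_equiv (LinearEquiv.ofBijective (LinearMap.toSpanSingleton R (I →ₗ[R] R) φ₀)
    ⟨smul_left_injective R hφ₀, fun φ => ?_⟩)
  have hmem : ∀ a ∈ T, a ∈ I := fun a ha => hS ▸ Submodule.subset_span (Finset.mem_filter.1 ha).1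
  have hcross : ∀ x y : I, φ x * (y : R) = φ y * (x : R) := fun x y => by
    rw [mul_comm, ← smul_eq_mul, ← map_smul, mul_comm (φ y), ← smul_eq_mul, ← map_smul]
    exact congrArg φ (Subtype.ext (mul_comm _ _))
  have hb0 : b a₀ ≠ 0 := fun h => (Finset.mem_filter.1 ha₀).2 (by
    have := hb a₀ ha₀; rw [h, mul_zero] at this; exact this)
  obtain ⟨k, hk⟩ := dvd_of_forall_dvd_mul b T ⟨a₀, ha₀⟩ hprim hb0 (φ ⟨a₀, hmem a₀ ha₀⟩) fun j hj =>
    ⟨φ ⟨j, hmem j hj⟩, mul_left_cancel₀ hg0 (by
      calc g * (φ ⟨a₀, hmem a₀ ha₀⟩ * b j) = φ ⟨a₀, hmem a₀ ha₀⟩ * (g * b j) := by ring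
        _ = φ ⟨a₀, hmem a₀ ha₀⟩ * j := by rw [← hb j hj]
        _ = φ ⟨j, hmem j hj⟩ * a₀ := hcross ⟨a₀, hmem a₀ ha₀⟩ ⟨j, hmem j hj⟩
        _ = φ ⟨j, hmem j hj⟩ * (g * b a₀) := by rw [← hb a₀ ha₀]
        _ = g * (b a₀ * φ ⟨j, hmem j hj⟩) := by ring)⟩
  refine ⟨k, LinearMap.ext fun x => mul_right_cancel₀ (Finset.mem_filter.1 ha₀).2 ?_⟩
  calc k * c x * a₀ = k * c x * (g * b a₀) := by rw [← hb a₀ ha₀]
    _ = (b a₀ * k) * (g * c x) := by ring
    _ = φ ⟨a₀, hmem a₀ ha₀⟩ * (x : R) := by rw [← hk, ← hc]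
    _ = φ x * a₀ := hcross ⟨a₀, hmem a₀ ha₀⟩ x

/-- A finite torsion-free module of rank one is isomorphic to an ideal. -/
theorem exists_equiv_ideal {R : Type u} [CommRing R] [IsDomain R] (M : Type u) [AddCommGroup M] [Module R M]
    [Module.Finite R M] [Module.IsTorsionFree R M] {K : Type u} [Field K] [Algebra R K] [IsFractionRing R K]
    {V : Type u} [AddCommGroup V] [Module R V] [Module K V] [IsScalarTower R K V] (l : M →ₗ[R] V)
    (hl : Function.Injective l) (hV : Module.finrank K V = 1) : ∃ I : Ideal R, Nonempty (M ≃ₗ[R] I) := by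
  haveI : Module.Finite K V := Module.finite_of_finrank_eq_succ hV
  let e : V ≃ₗ[K] K := LinearEquiv.ofFinrankEq V K (hV.trans (Module.finrank_self K).symm)
  let f : M →ₗ[R] K := (e.restrictScalars R).toLinearMap ∘ₗ l
  have hf : Function.Injective f := e.injective.comp hl
  obtain ⟨n, π, hπ⟩ := Module.Finite.exists_fin' R M
  classical
  obtain ⟨s, hs⟩ := IsLocalization.exist_integer_multiples_of_finite (nonZeroDivisors R)
    fun i => f (π (Pi.single i 1))
  choose a ha using fun i => hs i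
  have hmem : ∀ m, ∃ r : R, algebraMap R K r = (s : R) • f m := fun m => by
    obtain ⟨v, rfl⟩ := hπ m
    refine ⟨∑ i, v i * a i, ?_⟩
    conv_rhs => rw [pi_eq_sum_univ' v, map_sum, map_sum, Finset.smul_sum]
    rw [map_sum]
    refine Finset.sum_congr rfl fun i _ => ?_
    rw [map_smul, map_smul, smul_comm, ← ha i, map_mul, Algebra.smul_def]
  choose h hh using hmem
  let g : M →ₗ[R] R :=
    { toFun := h
      map_add' := fun x y => IsFractionRing.injective R K (by rw [map_add, hh, hh, hh, map_add, smul_add])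
      map_smul' := fun r x => IsFractionRing.injective R K (by
        rw [RingHom.id_apply, smul_eq_mul, map_mul, hh, hh, map_smul, smul_comm, Algebra.smul_def r]) }
  have hg : Function.Injective g := fun x y hxy => by
    have := congrArg (algebraMap R K) hxy
    rw [show g x = h x from rfl, show g y = h y from rfl, hh, hh, Algebra.smul_def, Algebra.smul_def] at this
    exact hf (mul_left_cancel₀ ((map_ne_zero_iff _ (IsFractionRing.injective R K)).2
      (nonZeroDivisors.coe_ne_zero s)) this)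
  exact ⟨LinearMap.range g, ⟨LinearEquiv.ofInjective g hg⟩⟩

/-- A reflexive module of rank one over a UFD is free. -/
theorem free_of_isReflexive_of_ideal {R : Type u} [CommRing R] [IsDomain R] [IsNoetherianRing R]
    [UniqueFactorizationMonoid R] (M : Type u) [AddCommGroup M] [Module R M] [Module.IsReflexive R M]
    {I : Ideal R} (e : M ≃ₗ[R] I) : Module.Free R M := by
  haveI : Module.Free R (Module.Dual R M) := by
    haveI := free_dual_ideal I
    exact Module.Free.of_equiv e.dualMap
  haveI : Module.Finite R M := Module.Finite.equiv e.symm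
  exact Module.Free.of_equiv (Module.evalEquiv R M).symm

/-- A reflexive module over a regular local ring of dimension at most two is free. -/
theorem free_of_isReflexive_of_dim_le_two {R : Type u} [CommRing R] [IsRegularLocalRing R] (M : Type u)
    [AddCommGroup M] [Module R M] [Module.Finite R M] [Module.IsReflexive R M]
    (h : ringKrullDim R < (3 : WithBot ℕ∞)) : Module.Free R M := by
  rcases subsingleton_or_nontrivial M with hM | hM
  · infer_instance
  obtain ⟨d, hd⟩ : ∃ d : ℕ, ringKrullDim R = d := ⟨_, ((isRegularLocalRing_iff R).1 inferInstance).symm⟩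
  obtain ⟨b, hbd, hb, hpd⟩ := DepthLib.depth_add_projectiveDimension R M hd
  have hd3 : d < 3 := by rw [hd] at h; exact_mod_cast h
  have hself : ((d : ℕ) : ℕ∞) ≤ LocCoh.depth R R := by
    have := NormalLib.le_depth_self_of_isRegularLocalRing R
    rw [hd] at this
    exact_mod_cast this
  have hle : ((d : ℕ) : ℕ∞) ≤ LocCoh.depth R M := by
    interval_cases d
    · simp
    · exact DepthTwoLib.one_le_iff.2 ((DepthTwoLib.idealDepth_reflexive _).1 (DepthTwoLib.one_le_iff.1 hself))
    · exact DepthTwoLib.two_le_iff.2 ((DepthTwoLib.idealDepth_reflexive _).2 (DepthTwoLib.two_le_iff.1 hself))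
  refine Groth.Agent.S0605.result R M ?_
  have hbd' : b = d := le_antisymm hbd (by rw [hb] at hle; exact_mod_cast hle)
  rw [hb, hd, hbd']
  rfl

end RefHullLib
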